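import Cfsg.Agent.Lib.L42.SP3

/-!
# S3152, `L₄(2)`: split case, copy of `LS/SB4`.
-/

set_option autoImplicit false
set_option linter.unusedSectionVars false

noncomputable section

namespace Cfsg.Lib.LS

open Matrix Subgroup Cfsg.Lib.BG Cfsg.Lib.GW Cfsg.Lib.Linear Cfsg.Lib.GSt.SLa
open scoped commutatorElement Cfsg.Lib.Transfer

open MulAut (conj)

variable {n : ℕ} {F : Type*} [Field F] [CharP F 2] [Finite F] {G : Type*} [Group G] [Finite G]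
  {ψ μ ν : J n F →* G} {t g e σ a : G} {O T Γ N : Subgroup G} {θ η η₁ η₂ : AA F} {k : ℕ}

namespace SN2
variable (s : SN2 ψ t O μ ν T Γ N)
include s

omit [Finite F] [Finite G] in
theorem sw_sq (h : Ac μ ν (a * t) (sa θ) (sa η)) [Finite F] : Ac μ ν (a ^ 2) (sa (θ * η)) (sa (θ * η)) := by
  simpa [mul_assoc, s.tt, s.t2, sq, ← map_mul, AA_comm η] using h.mul (s.ac_t h)

variable (w : Sw μ ν t T Γ N a g θ η η₁ η₂ k)
include w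

theorem sw_T : g * a * g⁻¹ ∈ T := Transfer.conj_le_iff.1 w.le a ⟨⟨s.ΓT w.aΓ, w.aN⟩, self_mem_cent1 a⟩
theorem sw_pow : a ^ 2 ^ (k + 2) = 1 := by
  rw [pow_succ', pow_mul, s.Γ_pow (pow_mem w.aΓ 2) (s.sw_sq w.ac), ← w.ord, pow_orderOf_eq_one]; exact ⟨rfl, rfl⟩
theorem sw_ph : Ph μ ν Γ N (a ^ 2 ^ (k + 1)) ((θ * η) ^ 2 ^ k) :=
  ⟨pow_mem w.aΓ _, pow_mem w.aN _, by simpa only [← map_pow, ← pow_mul, ← pow_succ'] using (s.sw_sq w.ac).pow (2 ^ k),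
    by rw [← pow_add, ← two_mul, ← pow_succ', ← w.ord, pow_orderOf_eq_one],
    pow_ne_one_of_lt_orderOf (by positivity) (w.ord ▸ Nat.pow_lt_pow_right one_lt_two (by omega))⟩
/-- `e₀ = e ^ 2 ^ (k + 1) = g φ g⁻¹` (`sw_ph`) has type `(c, d) = (η₁ ^ 2 ^ (k + 1), η₂ ^ 2 ^ (k + 1))`, graph parts trivial, `c² = d² = 1`.  `cmp3`: if `ι ≠ γ0`, `c, d ≠ 1` by `ex_A`.
If `ι = γ0` then `k = 0`, `θ η = γ0`, `c = d` (`ty_Γ`, `hγ`), `ex_B`. -/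
theorem sw_ord (hγ : θ * η = γ0 → ∀ σ ∈ Γ ⊓ N, ∀ c d, Ac μ ν σ (sa c) (sa d) → σ * σ = 1 → c = d) :
    orderOf η₁.1 = 2 ^ (k + 2) ∧ orderOf η₂.1 = 2 ^ (k + 2) := by
  have p := s.sw_ph w
  have e : g * a ^ 2 ^ (k + 1) * g⁻¹ = (g * a * g⁻¹) ^ 2 ^ (k + 1) := conj_pow.symm
  have eT := e ▸ pow_mem (s.sw_T w) (2 ^ (k + 1))
  have ty := e ▸ w.ty.pow (2 ^ (k + 1))
  have c := s.cmp3 p eT ty
  obtain ⟨c2, d2⟩ := s.ty_sq ty (cj2 (s.ph_sq p) g)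
  have A : ∀ {b b' : AA F}, ex n (b ^ 2 ^ (k + 1)) + ex n (b' ^ 2 ^ (k + 1)) < 2 * NN n + 3 → b ^ 2 ^ (k + 1) ≠ 1 := fun {b b'} c e =>
    (ex_A (n := n) (b' ^ 2 ^ (k + 1))).elim (e ▸ c).not_ge fun h => g1_ne ((congrArg Prod.snd h.2).symm.trans (snd_even b' k))
  have B : ∀ {b : AA F}, b ^ 2 ^ (k + 1) ≠ 1 → b ^ 2 ^ (k + 1) * b ^ 2 ^ (k + 1) = 1 → orderOf b.1 = 2 ^ (k + 2) := fun {b} h h' =>
    orderOf_eq_prime_pow (fun e => h (Prod.ext e (snd_even b k))) (by rw [pow_succ, pow_mul, sq]; exact congrArg Prod.fst h')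
  by_cases h : (θ * η) ^ 2 ^ k = γ0
  swap
  · rw [ex_ne p.ι1 h] at c
    exact ⟨B (A c) c2, B (A (by rwa [add_comm] at c)) d2⟩
  obtain ⟨u, hu, σ, hσ, f, ac⟩ := s.ty_Γ eT ty
  have cd := hγ (by
    rcases k with _ | k
    exacts [by simpa using h, absurd ((congrArg Prod.snd h).symm.trans (snd_even _ k)) g1_ne]) σ
    ⟨hσ, (mul_mem_cancel_left (s.SS_N hu)).1 (f ▸ s.cjN p.memN g)⟩ _ _ ac (by rw [← sq, s.Γ_pow hσ ac, sq, sq]; exact ⟨c2, d2⟩)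
  have c1 : η₁ ^ 2 ^ (k + 1) ≠ 1 := fun e => by
    rw [← cd, e, h, ex_γ] at c
    have := (ex_B (n := n) (F := F)).1
    omega
  exact ⟨B c1 c2, B (cd ▸ c1) d2⟩

variable (o₁ : orderOf η₁.1 = 2 ^ (k + 2)) (o₂ : orderOf η₂.1 = 2 ^ (k + 2))
include o₁ o₂

/-- `θ η = (τ, 1)`, `F₀ = fixField τ`, `B x = g (μ (ju (umap x)) * ν (sa η (ju (umap x)))) g⁻¹ ∈ T ⊓ N ⊓ C(e)` (`fl_umap`, `sa_ju`, `swap`), in `N0` (`inv`, `top_of_inv`).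
`EMB1` with `ε i` the action of `e ^ 2 ^ (k + 1)`, `α i` that of `e`; `fixb`, `card_fix_sq`, `card_fix_eq`, `card_UU`: `q₀ ^ (2 N) ≤ 4 q₀ ^ (N + 1)`, `q₀ ≥ 4`, `N ≥ 3`. -/
theorem sw_un (h : (θ * η).2 = 1) : False := by
  have o := ord_fst w.ord (.inl h)
  have hs : (sa (θ * η) : MulAut (J n F)) = fieldSL (θ * η).1 := by rw [← sa_fl, ← h]
  let B : UU n (fixField (θ * η).1) →* G := (conj g).toMonoidHom.comp
    ((s.pr.comp ((MonoidHom.id _).prod (sa η).toMonoidHom)).comp (ju.comp (umap (fixField (θ * η).1).subtype)))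
  have c0 : ∀ x, μ (ju (umap (fixField (θ * η).1).subtype x)) * ν (sa η (ju (umap (fixField (θ * η).1).subtype x))) ∈ T ⊓ N ⊓ 𝐂[a] := fun x =>
    ⟨le_inf s.SS_T s.SS_N ((sa_ju η _).elim fun v e => s.mem_SS.2 ⟨_, v, by rw [e]⟩), mc.2 (by
      rw [eq_comm, ← mul_inv_eq_iff_eq_mul, ← conj_mul, (s.swap w.ac _).1, (s.swap w.ac _).2, ← MulAut.mul_apply, ← map_mul,
        hs, fl_umap, s.sd.comm])⟩
  have bT : ∀ x, B x ∈ T := fun x => Transfer.conj_le_iff.1 w.le _ (c0 x)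
  obtain ⟨ρ₁, ρ₂, hρ⟩ := s.exists_rho B (top_of_inv (N := (N0 μ ν).comap B) fun x e =>
    w.inv _ ⟨bT x, s.cjN (c0 x).1.2 g⟩ (by rw [← map_mul, e, map_one]))
  obtain ⟨u, v, ae⟩ := w.ty
  have cm := fun x => s.ac_comm ae (hρ x) (cjc (mc.1 (c0 x).2) g).symm
  obtain ⟨q₁, q₂⟩ := s.ac_sq (ae.pow (2 ^ (k + 1))) (by rw [← pow_add, ← two_mul, ← pow_succ', conj_pow, s.sw_pow w]; simp)
  have t : ∀ {u : UU n F} {b : AA F}, orderOf b.1 = 2 ^ (k + 2) → Θ ((conj (ju u) * sa b : MulAut (J n F)) ^ 2 ^ (k + 1)) ≠ 1 := fun {u b} o e =>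
    pow_ne_one_of_lt_orderOf (by positivity) (o ▸ Nat.pow_lt_pow_right one_lt_two (k + 1).lt_succ_self) (by simpa using congrArg Prod.fst e)
  obtain ⟨H, h1, h2⟩ := EMB1 ρ₁ ρ₂ (fun x e e' => by
      have := s.T_one (bT x) (by simpa only [e, e'] using hρ x)
      obtain ⟨j, p⟩ := pU x
      exact umap_inj _ (ju_inj ((cen2 (k := j) (s.cen ((map_eq_one_iff (conj g) (conj g).injective).1 this)).1
        (show (ju.comp (umap _)) x ^ _ = 1 by rw [← map_pow, p, map_one])).trans (by simp))))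
    (fun x => (s.T_SU (bT x) (hρ x)).1) (fun x => (s.T_SU (bT x) (hρ x)).2) (pow_mem (mem_SU.2 ⟨_, _, rfl⟩) _) (pow_mem (mem_SU.2 ⟨_, _, rfl⟩) _)
    q₁ q₂ (t o₁) (t o₂) (fun x => (cm x).1.pow_left _) (fun x => (cm x).2.pow_left _) (fun x => (cm x).1) (fun x => (cm x).2)
    (.self_pow _ _) (.self_pow _ _)
  have f : ∀ {u : UU n F} {b : AA F}, orderOf b.1 = 2 ^ (k + 2) → (∀ x ∈ H, (conj (ju u) * sa b : MulAut (J n F)) (ju x) = ju x) → False := fun {u b} o' h1 => by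
    obtain ⟨c1, c2, c3⟩ := card_fix_sq o'
    have := h2.trans (Nat.mul_le_mul (Nat.mul_le_mul_right _ (card_fix_eq (c1.trans o.symm) ▸ c3)) (Nat.pow_le_pow_left (fixb b h1) 2))
    rw [← pow_mul, mul_comm (NN n), pow_mul, ← c2, card_fix_eq (c1.trans o.symm), card_UU, ← pow_mul, ← sq, ← pow_add,
      Nat.pow_le_pow_iff_right Finite.one_lt_card] at this
    have := (ex_C (n := n)).2.2
    omega
  exact h1.elim (f o₁) (f o₂)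
/-- `e = u σ` (`ty_Γ`), `e² ~ σ²` (`lang2`). -/
theorem sw_conj : ∃ σ ∈ Γ ⊓ N, Ac μ ν σ (sa η₁) (sa η₂) ∧ ∃ c, σ ^ 2 = c * a ^ 2 * c⁻¹ := by
  obtain ⟨u, hu, σ, hσ, f, ac⟩ := s.ty_Γ (s.sw_T w) w.ty
  have k : ∀ {b : AA F}, orderOf b.1 = 2 ^ (k + 2) → (b ^ 2) ^ 2 ^ (k + 1) = 1 := fun {b} o => by
    rw [← pow_mul, ← pow_succ']; exact Prod.ext (o ▸ pow_orderOf_eq_one b.1) (snd_even b _)
  have ac2 : Ac μ ν (σ ^ 2) (sa (η₁ ^ 2)) (sa (η₂ ^ 2)) := by simpa only [map_pow] using ac.pow 2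
  obtain ⟨c, e⟩ := isConj_iff.1 (s.lang2 (AA_sq η₁ ▸ AA_sq η₂ ▸ w.ty.pow 2) (AA_sq η₁ ▸ AA_sq η₂ ▸ ac2)
    (by rw [← pow_mul, ← pow_succ', conj_pow, s.sw_pow w]; simp) ((s.Γ_pow (pow_mem hσ 2) ac2 _).2 ⟨k o₁, k o₂⟩) (card_fix_sq o₁).1 (card_fix_sq o₂).1)
  exact ⟨σ, ⟨hσ, (mul_mem_cancel_left (s.SS_N hu)).1 (f ▸ s.cjN w.aN g)⟩, ac, c * g, by rw [← e, conj_pow]; group⟩
omit w o₁ o₂ in
/-- `η₁.1²` and `η₂.1²` are equal (`eq_of_inv`), so `σ²` commutes with `t` (`Γ_cen`); `same_ty` for `y = a²`. -/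
theorem sw_tw0 (w : Sw μ ν t T Γ N a g θ η η₁ η₂ 0) (o₁ : orderOf η₁.1 = 2 ^ 2) (o₂ : orderOf η₂.1 = 2 ^ 2) : (θ * η).2 = 1 := by
  obtain ⟨σ, hσ, ac, c, e⟩ := s.sw_conj w o₁ o₂
  have k : ∀ {τ : RingAut F}, orderOf τ = 2 ^ 2 → τ ^ 2 * τ ^ 2 = 1 ∧ τ ^ 2 ≠ 1 := fun o =>
    ⟨by rw [← pow_add]; exact (show _ = 2 + 2 from o) ▸ pow_orderOf_eq_one _, pow_ne_one_of_lt_orderOf two_ne_zero (by rw [o]; decide)⟩
  have ac2 : Ac μ ν (σ ^ 2) (sa (η₁ ^ 2)) (sa (η₁ ^ 2)) := by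
    have := ac.pow 2
    rwa [← map_pow, ← map_pow, AA_sq η₂, ← eq_of_inv (k o₁).1 (k o₂).1 (k o₁).2 (k o₂).2, ← AA_sq] at this
  rw [← (s.same_ty (k := 1) (s.sw_sq w.ac).ty (by rw [← pow_mul]; exact s.sw_pow w) (s.Γ_cen (pow_mem w.aΓ 2) (s.sw_sq w.ac) s.tΓ) (e ▸ ac2.ty)
    (e ▸ s.Γ_cen (pow_mem hσ.1 2) ac2 s.tΓ)).1, AA_sq]
/-- `F₀ = fixField η₁.1² = fixField η₂.1²` (`fix_eq`), `B₀ = i ∘ (umap × umap)`; `σ` (`sw_conj`) normalizes its range (`sa_umap`), `σ²` centralizes it (`fl_umap`), `σ` centralizes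
`B₀ (uz 1, 1)`, `B₀ (1, uz 1)`.  `into_T` for `y = a²`, `P = B₀.range ⊔ ⟨σ⟩`: `r = c σ c⁻¹ ∈ T`, `r²` has type `(ζ, ζ)` with a graph part, so `r ∉ N0`.  `B = c B₀ c⁻¹ ≤ N0` (`inv`).
`EMB2` for `ρ₁`, `α` the action of `r²` (`fixb`; `ζ.1` has order `2 ^ (k + 1)`): `B x` is trivial on `μ J` for `x = (uz 1, 1)` or `(1, uz 1)`, and on `ν J` as it commutes with
the swap `r`; `T_one`. -/
theorem sw_tw (hk : k ≠ 0) : (θ * η).2 = 1 := by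
  by_contra q
  have o := ord_fst w.ord (.inr hk)
  obtain ⟨σ, hσ, ac, c₀, e⟩ := s.sw_conj w o₁ o₂
  obtain ⟨c, l, -, u, v, ty⟩ := s.into_T (g := c₀) (P := T ⊓ 𝐂[σ ^ 2]) (k := k + 1) (s.sw_sq w.ac).ty (by rw [← pow_mul, ← pow_succ']; exact s.sw_pow w)
    (s.Γ_cen (pow_mem w.aΓ 2) (s.sw_sq w.ac) s.tΓ) (pgroup_of_le s.syl.pgroup inf_le_left) fun x hx => e ▸ mc.1 hx.2
  rw [← e] at ty
  replace l := Transfer.conj_le_iff.1 l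
  have rT := l σ ⟨s.ΓT hσ.1, mc.2 (Commute.self_pow σ 2)⟩
  obtain ⟨γ, δ, r⟩ := (s.mem_HH.1 (s.T_HH rT)).resolve_left fun h => by
    obtain ⟨a', b', h⟩ := s.ty rT h
    exact q (by rw [(s.ty_uniq ⟨u, v, ty⟩ (by simpa only [conj_pow] using h.pow 2)).1, AA_sq])
  let B₀ := s.i.comp ((umap (n := n) (fixField (θ * η).1).subtype).prodMap (umap (n := n) (fixField (θ * η).1).subtype))
  have f : ∀ {b : AA F}, orderOf b.1 = 2 ^ (k + 2) → ∀ x, (sa b ^ 2 : MulAut (J n F)) (ju (umap (fixField (θ * η).1).subtype x)) =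
      ju (umap (fixField (θ * η).1).subtype x) := fun {b} o' => by
    rw [← map_pow, AA_sq, sa_fl, fix_eq (o.trans (card_fix_sq o').1.symm)]; exact fl_umap _
  have c0 : ∀ x, B₀ x ∈ T ⊓ 𝐂[σ ^ 2] := fun x => ⟨s.SS_T (s.i_range.le ⟨_, rfl⟩), mc.2 (cjf.1 (((ac.pow 2).app _ _).trans
    (congrArg₂ (μ · * ν ·) (f o₁ x.1) (f o₂ x.2)))).symm⟩
  let B := (conj c).toMonoidHom.comp B₀
  have bT : ∀ x, B x ∈ T := fun x => l _ (c0 x)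
  obtain ⟨ρ₁, ρ₂, hρ⟩ := s.exists_rho B (top_of_inv2 (N := (N0 μ ν).comap B) fun x e =>
    w.inv _ ⟨bT x, s.cjN (s.SS_N (s.i_range.le ⟨_, rfl⟩)) c⟩ (by rw [← map_mul, e, map_one]))
  have z : ∀ x, σ * B₀ x * σ⁻¹ = B₀ x → ρ₁ x = 1 → x = 1 := fun x h e => by
    have a := hρ x
    have := (r.mul (s.ac_t a)).mul r.inv
    rw [show _ * (t * B x * t) * _ = B x from .trans (by simp [mul_assoc, s.tt, s.it, B]) (cjf.2 (cjc (cjf.1 h) c))] at this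
    replace this := (s.uniq a this).2
    rw [e, mul_one, mul_inv_cancel] at this
    rw [e, this] at a
    exact (s.i_inj.comp ((umap_inj _).prodMap (umap_inj _))) (((map_eq_one_iff (conj c) (conj c).injective).1
      (s.T_one (bT x) a)).trans (map_one B₀).symm)
  have z1 : (uz n 1 : UU n (fixField (θ * η).1)) ≠ 1 := fun e => one_ne_zero (uz_inj (e.trans uz_zero.symm))
  rcases EMB2 (card_fix_eq ((card_fix_sq o₁).1.trans o.symm) ▸ (card_fix_sq o₁).2.2) ρ₁ (fun x => (s.T_SU (bT x) (hρ x)).1)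
    (fun x => (s.ac_comm ty (hρ x) (cjc (mc.1 (c0 x).2) c).symm).1) (fun H => fixb _) with p | p
  · exact z1 (congrArg Prod.fst (z _ ((ac.app _ _).trans (by simp [B₀, s.i_apply, umap_uz, ju_uz, sa_zc])) p))
  · exact z1 (congrArg Prod.snd (z _ ((ac.app _ _).trans (by simp [B₀, s.i_apply, umap_uz, ju_uz, sa_zc])) p))

omit w o₁ o₂

theorem case2b (ha : a ∈ Γ ⊓ N) (r : Ac μ ν (a * t) (sa θ) (sa η)) (a2 : a * a ≠ 1) (hi : ∀ x ∈ T ⊓ N, x * x = 1 → x ∈ N0 μ ν)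
    (hγ : θ * η = γ0 → ∀ σ ∈ Γ ⊓ N, ∀ c d, Ac μ ν σ (sa c) (sa d) → σ * σ = 1 → c = d) (h0 : g * a * g⁻¹ ∈ N0 μ ν) (h : g ⋆ (T ⊓ N ⊓ 𝐂[a]) ≤ T) : False := by
  have o := s.Γ_pow (pow_mem ha.1 2) (s.sw_sq r)
  obtain ⟨m, hm⟩ := s.pΓ ⟨_, pow_mem ha.1 2⟩
  obtain ⟨k, -, hk⟩ := (Nat.dvd_prime_pow Nat.prime_two).1 (orderOf_dvd_of_pow_eq_one ((o _).1 (congrArg Subtype.val hm)).1)
  obtain ⟨k, rfl⟩ := Nat.exists_eq_add_of_le' (show 1 ≤ k from by_contra fun c => a2 (by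
    rw [← sq, ← pow_one (a ^ 2), o, and_self, ← orderOf_dvd_iff_pow_eq_one, hk, show k = 0 by omega]; rfl))
  obtain ⟨η₁, η₂, te⟩ := s.ty (Transfer.conj_le_iff.1 h a ⟨⟨s.ΓT ha.1, ha.2⟩, self_mem_cent1 a⟩) h0
  have w : Sw μ ν t T Γ N a g θ η η₁ η₂ k := ⟨ha.1, ha.2, r, hk, hi, te, h⟩
  obtain ⟨o₁, o₂⟩ := s.sw_ord w hγ
  refine s.sw_un w o₁ o₂ ?_
  rcases k with _ | k
  exacts [s.sw_tw0 w o₁ o₂, s.sw_tw w o₁ o₂ (by simp)]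
/-- As the end of `GSt.SN.fin`: `GSt.gt`, `case2a`, `case2b`. -/
theorem min_false (ha : a ∈ Γ ⊓ N) (r : Ac μ ν (a * t) (sa θ) (sa η)) (hm : ∀ y ∈ T ⊓ N, orderOf y < orderOf a → y ∈ N0 μ ν)
    (hγ : θ * η = γ0 → ∀ σ ∈ Γ ⊓ N, ∀ c d, Ac μ ν σ (sa c) (sa d) → σ * σ = 1 → c = d) : False := by
  have := s.nN
  have hS := s.syl.inf le_top (le_normalizer_of_normal (H := N))
  have a0 : a ∉ N0 μ ν := fun c => s.t_not ((mul_mem_cancel_left c).1 ⟨_, _, r⟩)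
  obtain ⟨k, hk⟩ := s.pΓ ⟨a, ha.1⟩
  obtain ⟨k, -, hk⟩ := (Nat.dvd_prime_pow Nat.prime_two).1 (orderOf_dvd_of_pow_eq_one (congrArg Subtype.val hk : a ^ _ = 1))
  obtain ⟨k, rfl⟩ := Nat.exists_eq_add_of_le' (show 1 ≤ k from by_contra fun c => a0 (by
    rw [(orderOf_eq_one_iff (x := a)).1 (hk.trans (by rw [show k = 0 by omega]; rfl))]; exact one_mem _))
  obtain ⟨g, hg, h1, h2⟩ := GSt.gt hS (T₁ := T ⊓ N ⊓ N0 μ ν) (C := T ⊓ N ⊓ 𝐂[a]) inf_le_left (fun x hx y hy h1 h2 => ⟨mul_mem hx hy,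
    s.mul_sw (s.T_HH hx.1) (s.T_HH hy.1) (fun c => h1 ⟨hx, c⟩) fun c => h2 ⟨hy, c⟩⟩) ⟨s.ΓT ha.1, ha.2⟩ (s.pN.ge ha.2)
    (fun g _ n hn h => ⟨h, hm _ h (by
      rw [Inv.orderOf_conj', hk]
      refine (orderOf_le_of_pow_eq_one (n := 2 ^ k) (by positivity) ?_).trans_lt (Nat.pow_lt_pow_right one_lt_two (by omega))
      rw [← pow_mul, ← pow_add, ← orderOf_dvd_iff_pow_eq_one, hk]
      exact pow_dvd_pow 2 (by omega))⟩) (pgroup_of_le (Syl.pgroup hS) inf_le_left) (inf_le_left.trans inf_le_right) inf_le_right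
  by_cases a2 : a * a = 1
  · exact s.case2a ha a0 a2 h1.2 (h2.trans inf_le_left)
  · refine s.case2b ha r a2 (fun x hx x2 => hm x hx ((orderOf_le_of_pow_eq_one two_pos ((sq x).trans x2)).trans_lt ?_)) hγ h1.2
      (h2.trans inf_le_left)
    rw [hk]
    exact (pow_one 2).ge.trans_lt (Nat.pow_lt_pow_right one_lt_two (by
      by_contra c; exact a2 (by rw [← sq, ← orderOf_dvd_iff_pow_eq_one, hk, show k = 0 by omega]; rfl)))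
/-- As in `GSt.SN.fin` (`Γ0_SS`, `Γ0_M`). -/
theorem exists_min (h : ¬ T ⊓ N ≤ N0 μ ν) : ∃ a ∈ Γ ⊓ N, a ∉ N0 μ ν ∧ ∀ y ∈ T ⊓ N, orderOf y < orderOf a → y ∈ N0 μ ν := by
  obtain ⟨x, ⟨hx, x0⟩, hm⟩ := (measure (orderOf : G → ℕ)).wf.has_min {x | x ∈ T ⊓ N ∧ x ∉ N0 μ ν} (SetLike.not_le_iff_exists.1 h)
  obtain ⟨u, hu, a, ha, rfl⟩ := (s.mem x).1 hx.1
  have n := s.Γ0_SS (s.std a ha)
  have l : orderOf a ≤ orderOf (u * a) := orderOf_le_of_pow_eq_one (orderOf_pos _) (by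
    have := GSt.pow_mul_mem n (conj_mem_of_norm' n hu) (orderOf (u * a))
    rw [← mul_assoc, mul_inv_cancel_left, pow_orderOf_eq_one, mul_one, inv_mem_iff] at this
    obtain ⟨k, hk⟩ := s.pΓ ⟨_, pow_mem ha (orderOf (u * a))⟩
    exact s.Γ0_M (pow_mem (show a ∈ s.Γ0 from s.std a ha) _) (s.SS_M this) (congrArg Subtype.val hk))
  exact ⟨a, ⟨ha, (mul_mem_cancel_left (s.SS_N hu)).1 hx.2⟩, fun c => x0 (mul_mem (s.SS_N0 hu) c),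
    fun y hy e => by_contra fun c => hm y ⟨hy, c⟩ (e.trans_le l)⟩

/-- `U₁ × U₂` is Sylow in `N`. -/
theorem fin : Syl 2 (SS μ ν) N := by
  have := s.nN
  have hS := s.syl.inf le_top (le_normalizer_of_normal (H := N))
  by_cases c : T ⊓ N ≤ SS μ ν
  · exact le_antisymm c (le_inf s.SS_T s.SS_N) ▸ hS
  obtain ⟨φ, ι, p⟩ := s.exists_ph c
  obtain ⟨a, ha, a0, hm⟩ := s.exists_min (s.case1 p)
  obtain ⟨θ, η, r⟩ := s.std1 ha.1 a0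
  refine (s.min_false ha r hm fun e σ hσ c d ac σ2 => by_contra fun cd => ?_).elim
  obtain ⟨c2, d2⟩ := s.ty_sq ac.ty σ2
  have r' : Ac μ ν (a * σ * t) (sa (θ * d)) (sa (η * c)) := by simpa [mul_assoc, s.tt] using r.mul (s.ac_t ac)
  have e' : θ * d * (η * c) = γ0 * (c * d) := by rw [← e, mul_assoc, mul_assoc, ← mul_assoc d, AA_comm d, mul_assoc, AA_comm d]
  have g2 : (γ0 : AA F) * γ0 = 1 := Prod.ext (one_mul _) (by decide : g1 * g1 = 1)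
  have o : orderOf a = 2 ^ 2 := orderOf_eq_prime_pow (p := 2) (n := 1) (fun h => g1_ne (congrArg Prod.snd (e ▸ ((s.Γ_pow (pow_mem ha.1 2) (s.sw_sq r) 1).1
    (by simpa using h)).1 :))) (by rw [show 2 ^ (1 + 1) = 2 * 2 from rfl, pow_mul, s.Γ_pow (pow_mem ha.1 2) (s.sw_sq r), e, sq, g2]; exact ⟨rfl, rfl⟩)
  refine s.min_false (mul_mem ha hσ) r' (fun y hy h => hm y hy (h.trans_le (o ▸ orderOf_le_of_pow_eq_one (by norm_num) ?_))) fun h => absurd ?_ cd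
  · rw [show 2 ^ 2 = 2 * 2 from rfl, pow_mul, s.Γ_pow (pow_mem (mul_mem ha.1 hσ.1) 2) (s.sw_sq r'), e', sq, and_self]
    exact Inv.mul_self_mul_of_comm g2 (Inv.mul_self_mul_of_comm c2 d2 (AA_comm _ _)) (AA_comm _ _)
  · rw [e', mul_eq_left] at h
    rw [eq_inv_of_mul_eq_one_left h, inv_eq_of_mul_eq_one_left d2]

end SN2

end Cfsg.Lib.LS
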