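import Cfsg.Agent.Lib.LS.SB4

/-!
# S3152, `L₄(2)`: split case, copy of `LS/SA2`, `LS/SB1` with the hypothesis `nf` instead of `Ok`.
-/

set_option autoImplicit false

noncomputable section

namespace Cfsg.Lib.LS

open Matrix Subgroup Cfsg.Lib.BG Cfsg.Lib.GW Cfsg.Lib.Linear Cfsg.Lib.GSt.SLa
open scoped commutatorElement Cfsg.Lib.Transfer

open MulAut (conj)

variable {n : ℕ} {F : Type*} [Field F] [CharP F 2] [Finite F] {G : Type*} [Group G] [Finite G]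
  {ψ μ ν : J n F →* G} {t g y e φ σ : G} {O P T Γ N : Subgroup G} {α β α' β' : MulAut (J n F)} {a b ι ζ : AA F}

namespace SP
variable (s : SP ψ t O μ ν)
include s

theorem sw' (nf : ∀ g, g * t * g⁻¹ ∉ N0 μ ν) (h : g * t * g⁻¹ ∈ HH μ ν t) : g ∈ HH μ ν t := by
  have s' := s.toSt.conj g
  obtain ⟨α, β, h⟩ := (s.mem_HH.1 h).resolve_left (nf g)
  have e := fun x => (s.swap h x).1
  generalize hr : g * t * g⁻¹ = r at s' e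
  let χ : J n F →* G := s.pr.comp ((MonoidHom.id _).prod β.toMonoidHom)
  have hχ : ∀ x, χ x = μ x * ν (β x) := fun _ => rfl
  obtain ⟨γ, hγ⟩ := exists_aut s'.ker (χ := χ) (fun x e => (s.cen e).1) (s'.range fun x => by
    conv_lhs => rw [hχ, s.sd.comm]
    simp only [hχ, ← e, mul_assoc, s'.it, ← mul_assoc r r, s'.t2, one_mul, mul_one])
  have d : ∀ x, ψ x = g⁻¹ * χ (γ⁻¹ x) * g := fun x => by simp [hγ, mul_assoc]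
  have c : ∀ x y, x * y = y * x → g⁻¹ * μ (γ⁻¹ x) * g * ψ y = ψ y * (g⁻¹ * μ (γ⁻¹ x) * g) := fun x y e => by
    rw [d y, hχ]
    simp only [mul_assoc, mul_inv_cancel_left, mul_right_inj, ← mul_assoc (ν _), ← s.sd.comm]
    simp only [← mul_assoc, ← map_mul, e]
  have m : ((μ.range ⊔ ν.range).comap ((MulAut.conj g⁻¹).toMonoidHom.comp (μ.comp γ⁻¹.toMonoidHom))).Normal := ⟨fun x hx y => by
    have hy := s.mem_M.2 ⟨_, _, s.sd.diag y⟩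
    have := mul_mem (mul_mem hy hx) (inv_mem hy)
    rw [d y, hχ] at this
    change g⁻¹ * μ (γ⁻¹ (y * x * y⁻¹)) * g⁻¹⁻¹ ∈ μ.range ⊔ ν.range
    convert this using 1
    change _ = _ * (g⁻¹ * μ (γ⁻¹ x) * g⁻¹⁻¹) * _
    simp only [map_mul, map_inv, _root_.mul_inv_rev, inv_inv, mul_assoc, mul_inv_cancel_left, ← mul_assoc (ν _) (μ _), ← s.sd.comm]⟩
  have top := (nml _ (hN := m)).resolve_left fun e' => xr_not_center bt one_ne_zero (e' (by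
    have := s.sd.can (g⁻¹ * μ (γ⁻¹ (zc n 1)) * g) ⟨by
        simp only [mul_assoc, mul_inv_cancel_left, ← mul_assoc (μ _), ← map_mul, xr_sq, map_one, one_mul, inv_mul_cancel],
      fun i j x hi hj => (c _ _ (xr_comm hj hi x 1).symm).symm, 1, one_ne_zero, by
        rw [d, hχ, show t = g⁻¹ * r * g by rw [← hr]; group, s.sd.comm, ← e]
        simp only [mul_assoc, mul_inv_cancel_left, s'.it, ← mul_assoc r r, s'.t2, one_mul]⟩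
    simpa using this))
  have h1 : ∀ x, g⁻¹ * μ x * g⁻¹⁻¹ ∈ μ.range ⊔ ν.range := fun x => by simpa using top.ge (mem_top (γ x))
  refine inv_mem_iff.1 (s.mem_of_M h1 fun x => ?_)
  have := mul_mem (inv_mem (h1 (β⁻¹ x))) (s.mem_M.2 ⟨_, _, s.sd.diag (γ (β⁻¹ x))⟩)
  rw [d, hχ] at this
  simpa [mul_assoc] using this
theorem two' (nf : ∀ g, g * t * g⁻¹ ∉ N0 μ ν) (hP : IsPGroup 2 P) (h : t ∈ P) : P ≤ HH μ ν t := by
  by_contra c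
  exact (nil_norm_grow (pgroup_nil hP) (inf_lt_left.2 c)).not_ge fun x hx =>
    ⟨hx.1, s.sw' nf (conj_mem_of_norm hx.2 ⟨h, mem_sup_right (mem_zpowers t)⟩).2⟩
theorem exists_sy' (nf : ∀ g, g * t * g⁻¹ ∉ N0 μ ν) : ∃ (ψ' μ' ν' : J n F →* G) (T Γ : Subgroup G), SP ψ' t O μ' ν' ∧ SY μ' ν' t T Γ ∧ μ'.range = μ.range ∧ ν'.range = ν.range := by
  obtain ⟨T, hT, l⟩ := Syl.exists_ge (pgroup_sup s.syl_SS.pgroup (Inv.isPGroup_zpowers_of_mul_self s.t2) (zpowers_le.2 s.t_SS)) le_top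
  have ht : t ∈ T := l (mem_sup_right (mem_zpowers t))
  have h2 := s.two' nf hT.pgroup ht
  have e : SS μ ν = T ⊓ (μ.range ⊔ ν.range) := s.syl_SS.eq_of_le_pgroup (le_inf (le_sup_left.trans l) s.SS_M) inf_le_right
    (pgroup_of_le hT.pgroup inf_le_left)
  let ρ : ↥(T ⊓ N0 μ ν) →* MulAut (J n F) := (MonoidHom.fst _ _).comp (s.a12.comp (inclusion inf_le_right))
  have hρ : ∀ {x α β} (hx : x ∈ T) (h : Ac μ ν x α β), ρ ⟨x, hx, α, β, h⟩ = α := fun hx h => congrArg Prod.fst (s.a12_eq h _)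
  obtain ⟨d, hd⟩ := dia (pgroup_of_le hT.pgroup inf_le_left) ρ (by
    rintro ⟨x, hx, α, β, h⟩ u
    have m : μ (ju u) ∈ SS μ ν := mem_sup_left ⟨u, rfl⟩
    obtain ⟨a, b, f⟩ := s.mem_SS.1 (e.ge ⟨T.mul_mem (T.mul_mem hx (e.le m).1) (T.inv_mem hx), conj_mem_of_norm (s.HH_M (h2 hx)) (e.le m).2⟩)
    obtain ⟨k, p⟩ := GSt.pg_prod pU (GSt.pg_prod pU pU) (u, a, b)
    have q : ∀ v : UU n F, v ^ 2 ^ k = 1 → ju v ^ 2 ^ k = 1 := fun v p => by rw [← map_pow, p, map_one]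
    rw [hρ hx h]
    exact ⟨a, (s.eq2 (y := 1) (k := k) (by rw [map_one, mul_one, ← h.1, f]) (by rw [← map_pow, q u (congrArg (·.1) p), map_one]) (one_pow _)
      (q a (congrArg (·.2.1) p)) (q b (congrArg (·.2.2) p))).1.symm⟩)
  have s' := s.comp_dG d⁻¹
  have eS : ∀ μ : J n F →* G, ((μ.comp (conjSL (dG d⁻¹)).toMonoidHom).comp ju).range = (μ.comp ju).range := fun μ => by
    refine le_antisymm ?_ ?_ <;> rintro _ ⟨u, rfl⟩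
    · obtain ⟨v, f⟩ := dG_ju d⁻¹ u
      exact ⟨v, congrArg μ f.symm⟩
    · obtain ⟨v, f⟩ := dG_ju d u
      exact ⟨v, congrArg μ (by simp [← f])⟩
  have l' : SS (μ.comp (conjSL (dG d⁻¹)).toMonoidHom) (ν.comp (conjSL (dG d⁻¹)).toMonoidHom) ≤ T := by
    rw [SS, eS, eS]; exact le_sup_left.trans l
  have k : ∀ x ∈ T, x ∈ N0 μ ν → ∃ u ∈ SS (μ.comp (conjSL (dG d⁻¹)).toMonoidHom) (ν.comp (conjSL (dG d⁻¹)).toMonoidHom), ∃ a b,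
      Ac (μ.comp (conjSL (dG d⁻¹)).toMonoidHom) (ν.comp (conjSL (dG d⁻¹)).toMonoidHom) (u⁻¹ * x) (sa a) (sa b) := by
    rintro x hx ⟨α, β, h⟩
    have hx' := mul_mem (mul_mem ht hx) ht
    obtain ⟨u, e1⟩ := hd ⟨x, hx, α, β, h⟩
    obtain ⟨v, e2⟩ := hd ⟨_, hx', _, _, s.ac_t h⟩
    rw [hρ hx h] at e1
    rw [hρ hx' (s.ac_t h)] at e2
    have : Ac (μ.comp (conjSL (dG d⁻¹)).toMonoidHom) (ν.comp (conjSL (dG d⁻¹)).toMonoidHom) x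
        (conjSL (dG d) * α * (conjSL (dG d))⁻¹) (conjSL (dG d) * β * (conjSL (dG d))⁻¹) :=
      ⟨fun y => (h.1 _).trans (by simp), fun y => (h.2 _).trans (by simp)⟩
    rw [e1, e2] at this
    exact ⟨_, s'.mem_SS.2 ⟨u, v, rfl⟩, _, _, by simpa using (s'.ac_μν (ju u) (ju v)).inv.mul this⟩
  refine ⟨_, _, _, T, T ⊓ s'.Γ0, s', ⟨hT, ⟨ht, 1, 1, .inr (by simpa [s.t2] using Ac.one)⟩, fun x => ⟨fun hx => ?_, ?_⟩, fun σ h => h.2⟩,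
    range_comp _ _, range_comp _ _⟩
  · rcases s.mem_HH.1 (h2 hx) with h | h
    · obtain ⟨u, hu, a, b, f⟩ := k x hx h
      exact ⟨u, hu, u⁻¹ * x, ⟨T.mul_mem (T.inv_mem (l' hu)) hx, a, b, .inl f⟩, by simp⟩
    · obtain ⟨u, hu, a, b, f⟩ := k _ (mul_mem hx ht) h
      exact ⟨u, hu, u⁻¹ * x, ⟨T.mul_mem (T.inv_mem (l' hu)) hx, a, b, .inr (by rwa [mul_assoc])⟩, by simp⟩
  · rintro ⟨u, hu, σ, h, rfl⟩
    exact mul_mem (l' hu) h.1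
end SP

/-- All data. -/
structure SN2 (ψ : J n F →* G) (t : G) (O : Subgroup G) (μ ν : J n F →* G) (T Γ N : Subgroup G) : Prop extends SP ψ t O μ ν, SY μ ν t T Γ where
  nf : ∀ g, g * t * g⁻¹ ∉ N0 μ ν
  nN : N.Normal
  pN : ⁅N, N⁆ = N
  μN : μ.range ≤ N
  νN : ν.range ≤ N

namespace SN2
variable (s : SN2 ψ t O μ ν T Γ N)
include s

omit [Finite F] [Finite G] in
theorem symm : SN2 ψ t O ν μ T Γ N := ⟨s.toSP.symm, ⟨s.syl, s.tΓ, fun x => SS_symm (μ := μ) (ν := ν) ▸ s.mem x, fun σ h =>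
  let ⟨θ, η, h⟩ := s.std σ h; ⟨η, θ, h.imp And.symm And.symm⟩⟩, fun g h => s.nf g (N0_symm.le h), s.nN, s.pN, s.νN, s.μN⟩
theorem ct (h : g ∈ N) (hc : g * t = t * g) : g ∈ N0 μ ν :=
  GSt.tf le_sup_left (fun _ hx _ hy => s.mul_sw hx hy) s.t2 (mem_sup_right (mem_zpowers t)) (fun _ => s.sw' s.nf) hc
    (commutator_mono le_top le_top (s.pN.ge h))
omit [Finite F] [Finite G] in
theorem ΓT : Γ ≤ T := SP.Γ_le s.toSY
omit [Finite F] [Finite G] in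
theorem tT : t ∈ T := s.ΓT s.tΓ
theorem T_HH : T ≤ HH μ ν t := s.two' s.nf s.syl.pgroup s.tT
omit [Finite F] [Finite G] in
theorem SS_T : SS μ ν ≤ T := SP.SS_le s.toSY
omit [Finite F] [Finite G] in
theorem M_N : μ.range ⊔ ν.range ≤ N := sup_le s.μN s.νN
omit [Finite F] [Finite G] in
theorem SS_N : SS μ ν ≤ N := s.SS_M.trans s.M_N
omit [Finite F] [Finite G] in
theorem cjN (h : g ∈ N) (c : G) : c * g * c⁻¹ ∈ N := s.nN.conj_mem _ h c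
omit [Finite F] [Finite G] in
theorem ty (h : g ∈ T) (h0 : g ∈ N0 μ ν) : ∃ a b, Ty μ ν g a b := let ⟨a, b, h, _⟩ := s.exists_ty s.toSY h h0; ⟨a, b, h⟩
omit [Finite G] in
theorem ty_Γ (h : g ∈ T) (h0 : Ty μ ν g a b) : ∃ u ∈ SS μ ν, ∃ σ ∈ Γ, g = u * σ ∧ Ac μ ν σ (sa a) (sa b) := by
  obtain ⟨a', b', h1, h2⟩ := s.exists_ty s.toSY h h0.N0
  obtain ⟨rfl, rfl⟩ := s.ty_uniq h0 h1
  exact h2
omit [Finite F] [Finite G] in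
theorem T_SU (h : g ∈ T) (h0 : Ac μ ν g α β) : α ∈ SU n F ∧ β ∈ SU n F := by
  obtain ⟨a, b, u, v, h1⟩ := s.ty h ⟨_, _, h0⟩
  obtain ⟨rfl, rfl⟩ := s.uniq h0 h1
  exact ⟨mem_SU.2 ⟨_, _, rfl⟩, mem_SU.2 ⟨_, _, rfl⟩⟩
theorem T_one (h : g ∈ T) (h0 : Ac μ ν g 1 1) : g = 1 :=
  let ⟨_, hk⟩ := s.syl.pgroup ⟨_, h⟩; s.cm_odd h0 (congrArg Subtype.val hk)
theorem T_eq {g' : G} (h : g ∈ T) (h' : g' ∈ T) (h0 : Ac μ ν g α β) (h1 : Ac μ ν g' α β) : g = g' :=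
  inv_mul_eq_one.1 (s.T_one (mul_mem (inv_mem h) h') (by simpa using h0.inv.mul h1))
theorem T_SS (h : g ∈ T) (h0 : Ac μ ν g α β) (h1 : Θ α = 1) (h2 : Θ β = 1) : g ∈ SS μ ν := by
  obtain ⟨a, b, h3⟩ := s.ty h ⟨_, _, h0⟩
  obtain ⟨rfl, rfl⟩ := s.ty_Θ h3 h0
  rw [h1, h2] at h3
  exact (s.ty_one s.toSY h).1 h3
theorem T_U1 (h : g ∈ T) (h0 : g ∈ N0 μ ν) : g ∈ 𝐍((μ.comp ju).range) := by
  obtain ⟨θ, η, a, b, h⟩ := s.ty h h0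
  refine Transfer.mem_normalizer_of_conj_le (Transfer.conj_le_iff.2 ?_)
  rintro _ ⟨x, rfl⟩
  obtain ⟨v, hv⟩ := sa_ju θ x
  exact ⟨a * v * a⁻¹, by simp [h.1, hv]⟩
theorem T_U2 (h : g ∈ T) (h0 : g ∈ N0 μ ν) : g ∈ 𝐍((ν.comp ju).range) := s.symm.T_U1 h (N0_symm.ge h0)
omit [Finite F] [Finite G] in
theorem std0 (h : g ∈ Γ) (h0 : g ∈ N0 μ ν) : ∃ a b, Ac μ ν g (sa a) (sa b) :=
  let ⟨θ, η, e⟩ := s.std g h
  ⟨θ, η, e.resolve_right fun e => s.t_not ((mul_mem_cancel_left h0).1 ⟨_, _, e⟩)⟩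
omit [Finite F] [Finite G] in
theorem std1 (h : g ∈ Γ) (h0 : g ∉ N0 μ ν) : ∃ a b, Ac μ ν (g * t) (sa a) (sa b) :=
  let ⟨θ, η, e⟩ := s.std g h
  ⟨θ, η, e.resolve_left fun e => h0 ⟨_, _, e⟩⟩
omit [Finite F] in
theorem pΓ : IsPGroup 2 Γ := pgroup_of_le s.syl.pgroup s.ΓT
theorem Γ_comm (h : g ∈ Γ) (h0 : g ∈ N0 μ ν) (h' : σ ∈ Γ) (h0' : σ ∈ N0 μ ν) : g * σ = σ * g := by
  obtain ⟨a, b, e⟩ := s.std0 h h0
  obtain ⟨c, d, e'⟩ := s.std0 h' h0'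
  refine s.T_eq (s.ΓT (mul_mem h h')) (s.ΓT (mul_mem h' h)) (e.mul e') ?_
  simpa only [← map_mul, AA_comm a, AA_comm b] using e'.mul e
theorem Γ_cen (h : g ∈ Γ) (h0 : Ac μ ν g α α) (h' : σ ∈ Γ) : g * σ = σ * g := by
  have e : t * g * t = g := s.T_eq (mul_mem (mul_mem s.tT (s.ΓT h)) s.tT) (s.ΓT h) (s.ac_t h0) h0
  have e' : g * t = t * g := by conv_rhs => rw [← e, ← mul_assoc, ← mul_assoc, s.t2, one_mul]
  rcases s.mem_HH.1 (s.T_HH (s.ΓT h')) with c | c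
  · exact s.Γ_comm h ⟨_, _, h0⟩ h' c
  · have := s.Γ_comm h ⟨_, _, h0⟩ (mul_mem h' s.tΓ) c
    rwa [mul_assoc σ, ← e', ← mul_assoc, ← mul_assoc, mul_left_inj] at this
theorem Γ_pow (h : g ∈ Γ) (h0 : Ac μ ν g (sa a) (sa b)) (k : ℕ) : g ^ k = 1 ↔ a ^ k = 1 ∧ b ^ k = 1 :=
  ⟨fun e => s.ty_uniq (h0.ty.pow k) (e ▸ Ac.ty (by simpa using Ac.one)), fun e =>
    s.T_one (pow_mem (s.ΓT h) k) (by simpa only [← map_pow, e.1, e.2, map_one] using h0.pow k)⟩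
theorem ph_sq (p : Ph μ ν Γ N φ ι) : φ * φ = 1 := by rw [← sq, s.Γ_pow p.mem p.ac, sq, p.ι2]; exact ⟨rfl, rfl⟩
/-- As `GSt.SN.exists_ph`: `Γ ⊓ N ≠ 1` contains a central involution of `Γ`; `ct`, `std0`, `ac_t`. -/
theorem exists_ph (h : ¬ T ⊓ N ≤ SS μ ν) : ∃ φ ι, Ph μ ν Γ N φ ι := by
  obtain ⟨x, hx, c⟩ := SetLike.not_le_iff_exists.1 h
  obtain ⟨u, hu, σ, hσ, rfl⟩ := (s.mem x).1 hx.1
  have := s.nN
  obtain ⟨φ, h1, h2⟩ := Inv.exists_involution_mem_of_even (even_iff_two_dvd.2 (pgroup_dvd_card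
    (pgroup_of_le s.pΓ (inf_le_left.trans inf_le_left)) (nil_meet_center (pgroup_nil s.pΓ) (N := Γ ⊓ N) inf_le_left
      (norm_inf (le_norm Γ) le_normalizer_of_normal)
      (ne_bot_of_mem (x := σ) ⟨hσ, (mul_mem_cancel_left (s.SS_N hu)).1 hx.2⟩ fun e => c (by simpa [e] using hu)))))
  have h3 := (mem_cent.1 h1.2 t s.tΓ).symm
  obtain ⟨θ, η, e⟩ := s.std0 h1.1.1 (s.ct h1.1.2 h3)
  have e' := s.ac_t e
  rw [mul_assoc, h3, s.tt] at e'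
  obtain rfl := sa_inj (s.uniq e e').1
  have h4 := Inv.mul_self_of_orderOf h2
  refine ⟨φ, θ, h1.1.1, h1.1.2, e, sa_inj (by rw [map_mul, (s.ac_sq e h4).1, map_one]), ?_⟩
  rintro rfl
  exact Inv.ne_one_of_orderOf h2 (s.T_one (s.ΓT h1.1.1) (by simpa using e))
/-- As `GSt.SN.into_T`: a Sylow subgroup of `C(y)` contains `t`, so lies in `HH` (`two`), `T` is Sylow in `HH`; `Θ_HH`. -/
theorem into_T {k : ℕ} (hy : Ty μ ν y ζ ζ) (hk : y ^ 2 ^ k = 1) (ht : y * t = t * y) (hP : IsPGroup 2 P)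
    (h : ∀ x ∈ P, x * (g * y * g⁻¹) = g * y * g⁻¹ * x) :
    ∃ c, c ⋆ P ≤ T ∧ c * (g * y * g⁻¹) * c⁻¹ ∈ T ∧ Ty μ ν (c * (g * y * g⁻¹) * c⁻¹) ζ ζ := by
  obtain ⟨R, hR, h1⟩ := Syl.exists_ge (Inv.isPGroup_zpowers_of_mul_self s.t2) (zpowers_le.2 (mem_cent1.2 ht.symm))
  have l : g⁻¹ ⋆ P ≤ 𝐂[y] := by
    rw [Transfer.conj_le_iff_le_inv_conj, inv_inv, conj_cent1]; exact fun x hx => mem_cent1.2 (h x hx)
  obtain ⟨c₁, hc₁, h2⟩ := hR.exists_conj_le ((pgroup_conj _).2 hP) l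
  obtain ⟨c₂, hc₂, h3⟩ := Syl.exists_conj_le (s.syl.of_le s.T_HH le_top) hR.pgroup (s.two' s.nf hR.pgroup (h1 (mem_zpowers t)))
  have e : c₂ * c₁ * g⁻¹ * (g * y * g⁻¹) * (c₂ * c₁ * g⁻¹)⁻¹ = c₂ * y * c₂⁻¹ := by
    conv_rhs => rw [← mul_inv_eq_iff_eq_mul.2 (mem_cent1.1 hc₁)]
    group
  have hφ := Transfer.conj_le_iff.1 h3 y (hR.ge_of_norm_p (zpowers_le.2 (self_mem_cent1 y))
    (let ⟨_, _, e⟩ := (Nat.dvd_prime_pow Nat.prime_two).1 (orderOf_dvd_of_pow_eq_one hk);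
      IsPGroup.of_card ((Nat.card_zpowers y).trans e)) (norm_of_cent (cent_zpowers y ▸ hR.le)) (mem_zpowers y))
  refine ⟨c₂ * c₁ * g⁻¹, ?_, e ▸ hφ, e ▸ ?_⟩
  · rw [← Transfer.conj_conj, ← Transfer.conj_conj]; exact (Transfer.conj_mono _ h2).trans h3
  obtain ⟨c, hc, e'⟩ : ∃ c ∈ N0 μ ν, c₂ * y * c₂⁻¹ = c * y * c⁻¹ := (s.mem_HH.1 hc₂).elim (fun h => ⟨_, h, rfl⟩) fun h =>
    ⟨_, h, by rw [mul_assoc c₂ t, ← ht]; group⟩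
  obtain ⟨θ, η, h⟩ := s.ty hφ (e' ▸ mul_mem (mul_mem hc hy.N0) (inv_mem hc))
  obtain ⟨α, β, a⟩ := hy.N0
  obtain ⟨α', β', a'⟩ := h.N0
  obtain ⟨e1, e2⟩ := s.ty_Θ hy a
  obtain ⟨rfl, rfl⟩ := s.ty_Θ h a'
  rcases s.Θ_HH hc₂ a a' with ⟨e3, e4, -⟩ | ⟨e3, e4, -⟩ <;> rwa [e3, e4, e1, e2] at h
/-- `into_T` for `P = ⟨t⟩`, `sw`, `Θ_HH`. -/
theorem same_ty {k : ℕ} (hy : Ty μ ν y ζ ζ) (hk : y ^ 2 ^ k = 1) (ht : y * t = t * y) (h : Ty μ ν (g * y * g⁻¹) a b)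
    (ht' : g * y * g⁻¹ * t = t * (g * y * g⁻¹)) : a = ζ ∧ b = ζ := by
  obtain ⟨c, h1, -, h3⟩ := s.into_T (g := g) hy hk ht (Inv.isPGroup_zpowers_of_mul_self s.t2) fun x ⟨j, e⟩ =>
    e ▸ (Commute.zpow_left ht'.symm j).eq
  obtain ⟨α, β, a1⟩ := h.N0
  obtain ⟨α', β', a2⟩ := h3.N0
  obtain ⟨rfl, rfl⟩ := s.ty_Θ h a1
  obtain ⟨e1, e2⟩ := s.ty_Θ h3 a2
  rcases s.Θ_HH (s.sw' s.nf (s.T_HH (Transfer.conj_le_iff.1 h1 t (mem_zpowers t)))) a1 a2 with ⟨e3, e4, -⟩ | ⟨e3, e4, -⟩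
  exacts [⟨e3 ▸ e1, e4 ▸ e2⟩, ⟨e4 ▸ e2, e3 ▸ e1⟩]
/-- `GSt.fx_card` for `u σ ↦ σ` (`Γ0_SS`: `σ` normalizes `S'`). -/
theorem card_TN (h : P ≤ T ⊓ N) : Nat.card P ≤ Nat.card ↥(Γ ⊓ N) * Nat.card ↥(P ⊓ SS μ ν) := by
  choose u hu σ hσ e using fun x : P => (s.mem x).1 (h x.2).1
  refine GSt.fx_card P _ (fun x => (⟨σ x, hσ x, (mul_mem_cancel_left (s.SS_N (hu x))).1 (e x ▸ (h x.2).2)⟩ : ↥(Γ ⊓ N))) fun a b c => ?_
  have := conj_mem_of_norm' (s.Γ0_SS (s.std _ (hσ a))) (mul_mem (inv_mem (hu a)) (hu b))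
  rw [e a, e b, ← show σ a = σ b from congrArg Subtype.val c]
  simpa [mul_assoc] using this
/-- The projections of `P.comap i` are fixed by the actions of `e` (`eq2`); `FUU`. -/
theorem card_fix (h : Ty μ ν e a b) (e2 : e * e = 1) (ha : a ≠ 1) (hb : b ≠ 1) (hP : P ≤ SS μ ν) (hc : ∀ x ∈ P, x * e = e * x) :
    Nat.card P ^ 2 ≤ Nat.card F ^ (ex n a + ex n b) := by
  obtain ⟨α, β, ac⟩ := h.N0
  obtain ⟨rfl, rfl⟩ := s.ty_Θ h ac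
  obtain ⟨a2, b2⟩ := s.ac_sq ac e2
  obtain ⟨k, hk⟩ := IsPGroup.iff_card.1 (pU (n := n) (F := F))
  have o : ∀ u : UU n F, ju u ^ 2 ^ k = 1 := fun u => by rw [← map_pow, ← hk, pow_card_eq_one', map_one]
  have l : P ≤ (((Fx α).comap ju).prod ((Fx β).comap ju)).map s.i := fun x hx => by
    obtain ⟨u, v, rfl⟩ := s.mem_SS.1 (hP hx)
    have := s.eq2 (k := k) ((ac.app _ _).symm.trans (mul_inv_eq_iff_eq_mul.2 (hc _ hx).symm))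
      (by rw [← map_pow, o, map_one]) (by rw [← map_pow, o, map_one]) (o _) (o _)
    exact ⟨(u, v), this, rfl⟩
  refine (Nat.pow_le_pow_left (card_le_of_le l) 2).trans ?_
  rw [card_map_of_injective s.i_inj, Nat.card_congr (prodEquiv _ _).toEquiv, Nat.card_prod, mul_pow, pow_add]
  exact Nat.mul_le_mul (FUU a2 ha fun _ h => h) (FUU b2 hb fun _ h => h)
/-- `into_T`, `card_TN`, `card_fix`. -/
theorem nb (p : Ph μ ν Γ N φ ι) (hP : IsPGroup 2 P) (hN : P ≤ N) (h : ∀ x ∈ P, x * (g * φ * g⁻¹) = g * φ * g⁻¹ * x) :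
    Nat.card P ≤ Nat.card ↥(Γ ⊓ N) * Nat.card F ^ ex n ι := by
  obtain ⟨c, h1, -, h3⟩ := s.into_T (k := 1) p.ac.ty (by rw [pow_one, sq, s.ph_sq p]) (s.Γ_cen p.mem p.ac s.tΓ) hP h
  rw [← Transfer.card_conj c P]
  refine (s.card_TN (le_inf h1 (Transfer.conj_le_iff.2 fun x hx => s.cjN (hN hx) c))).trans
    (Nat.mul_le_mul_left _ ((Nat.pow_le_pow_iff_left two_ne_zero).1 ?_))
  rw [← pow_mul, mul_two]
  refine s.card_fix h3 (cj2 (cj2 (s.ph_sq p) g) c) p.ι1 p.ι1 inf_le_right ?_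
  rintro _ ⟨⟨x, hx, rfl⟩, -⟩
  exact cjc (h x hx) c

end SN2

end Cfsg.Lib.LS
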