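import Cfsg.Agent.Lib.L42.SP1

/-!
# S3152, `L₄(2)`: split case, copy of `LS/SB2`.
-/

set_option autoImplicit false

noncomputable section

namespace Cfsg.Lib.LS

open Matrix Subgroup Cfsg.Lib.BG Cfsg.Lib.GW Cfsg.Lib.Linear Cfsg.Lib.GSt.SLa
open scoped commutatorElement Cfsg.Lib.Transfer

open MulAut (conj)

variable {n : ℕ} {F : Type*} [Field F] [CharP F 2] [Finite F] {G : Type*} [Group G] [Finite G]
  {ψ μ ν : J n F →* G} {t g φ : G} {O T Γ N : Subgroup G} {a b ι : AA F}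

open H8

namespace SN2
variable (s : SN2 ψ t O μ ν T Γ N) (p : Ph μ ν Γ N φ ι)
include s p

/-- `e = g φ g⁻¹ = u σ` (`ty_Γ`), `σ ∈ Γ ⊓ N`, `σ² = 1` (`ty_sq`, `Γ_pow`).  `cls'` in both factors and `conj_of_ac`: `e ~ e' = μ w₁ * ν w₂ * σ` (`Wn.fix`).
`Δ = Γ ⊓ N ⊓ N0` centralizes `e'` (`Γ_comm`, `Wn.fix`) and normalizes `C = M ⊓ C(e')`, `Δ ⊓ M = 1` (`Γ0_M`); `C ⊇ pr (P₁ × P₂)` (`FL`, `card_prod`).
A Sylow subgroup of `C Δ` has order `≥ |P₁| |P₂| |Δ|`; `nb`. -/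
theorem cmp (h : g * φ * g⁻¹ ∈ T) (ht : Ty μ ν (g * φ * g⁻¹) a b) :
    Nat.card F ^ (ex n a + ex n b) * Nat.card ↥(Γ ⊓ N ⊓ N0 μ ν) ^ 2 ≤ Nat.card ↥(Γ ⊓ N) ^ 2 * Nat.card F ^ (2 * ex n ι) := by
  obtain ⟨u, hu, σ, hσ, e, ac⟩ := s.ty_Γ h ht
  have σN : σ ∈ N := (mul_mem_cancel_left (s.SS_N hu)).1 (e ▸ s.cjN p.memN g)
  have e2 := cj2 (s.ph_sq p) g
  obtain ⟨a2, b2⟩ := s.ty_sq ht e2
  have σ2 : σ * σ = 1 := by rw [← sq, s.Γ_pow hσ ac, sq, sq]; exact ⟨a2, b2⟩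
  obtain ⟨x₁, x₂, ae⟩ := ht
  obtain ⟨g₁, w₁, W₁, c₁⟩ := cls' (s.ac_sq ae e2).1
  obtain ⟨g₂, w₂, W₂, c₂⟩ := cls' (s.ac_sq ae e2).2
  have a1 := ((s.ac_μν g₁ g₂).mul ae).mul (s.ac_μν g₁ g₂).inv
  have a3 := (s.ac_μν w₁ w₂).mul ac
  rw [c₁, c₂] at a1
  have fx : ∀ δ ∈ Γ, δ ∈ N0 μ ν → δ * (μ w₁ * ν w₂) = μ w₁ * ν w₂ * δ := fun δ h h0 => by
    obtain ⟨c, d, a⟩ := s.std0 h h0
    rw [← mul_inv_eq_iff_eq_mul, a.app, W₁.fix.2, W₂.fix.2]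
  have q : μ w₁ * ν w₂ * σ * (μ w₁ * ν w₂ * σ) = 1 := by
    rw [mul_assoc _ σ, ← mul_assoc σ, fx σ hσ ⟨_, _, ac⟩, mul_assoc _ σ, σ2, mul_one, ← s.pr_apply (w₁, w₂), ← map_mul, Prod.mk_mul_mk,
      W₁.fix.1, W₂.fix.1]
    exact map_one _
  obtain ⟨c, -, e'⟩ := s.conj_of_ac a1 a3 (cj2 e2 _) q
  replace e' : c * (μ g₁ * ν g₂) * g * φ * (c * (μ g₁ * ν g₂) * g)⁻¹ = μ w₁ * ν w₂ * σ := by rw [← e']; group
  obtain ⟨P₁, p1, f1, n1⟩ := FL (s.ac_sq a3 q).1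
  obtain ⟨P₂, p2, f2, n2⟩ := FL (s.ac_sq a3 q).2
  simp only [map_mul, Θ_conj, Θ_sa, one_mul] at n1 n2
  obtain ⟨pQ, cQ⟩ := s.card_prod p1 p2
  let C := (μ.range ⊔ ν.range) ⊓ 𝐂[μ w₁ * ν w₂ * σ]
  have lQ : (P₁.prod P₂).map s.pr ≤ C := by
    rintro _ ⟨x, hx, rfl⟩
    exact ⟨s.mem_M.2 ⟨_, _, rfl⟩, mem_cent1.2 (mul_inv_eq_iff_eq_mul.1 ((a3.app _ _).trans (by rw [f1 _ hx.1, f2 _ hx.2]; rfl))).symm⟩
  have dC : Γ ⊓ N ⊓ N0 μ ν ≤ 𝐂[μ w₁ * ν w₂ * σ] := fun δ h => mem_cent1.2 (by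
    rw [← mul_assoc, fx δ h.1.1 h.2, mul_assoc, s.Γ_comm h.1.1 h.2 hσ ⟨_, _, ac⟩, ← mul_assoc])
  obtain ⟨R, hR, l⟩ := Syl.exists_ge (M := C ⊔ Γ ⊓ N ⊓ N0 μ ν) (pgroup_of_le s.pΓ (inf_le_left.trans inf_le_left)) le_sup_right
  have sy := hR.inf le_sup_left (hR.le.trans (sup_le (le_norm C)
    (norm_inf (inf_le_right.trans (le_sup_left.trans s.HH_M)) (norm_cent1 dC))))
  have n3 := card_mul (inf_le_left : R ⊓ C ≤ R) l fun y hy h =>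
    let ⟨_, hk⟩ := s.pΓ ⟨y, h.1.1⟩; s.Γ0_M (s.std y h.1.1) hy.2.1 (congrArg Subtype.val hk)
  have n4 := s.nb p (g := c * (μ g₁ * ν g₂) * g) hR.pgroup (hR.le.trans (sup_le (inf_le_left.trans s.M_N) (inf_le_left.trans inf_le_right)))
    fun x hx => e' ▸ mem_cent1.1 (sup_le inf_le_right dC (hR.le hx))
  have n5 := Nat.pow_le_pow_left ((Nat.mul_le_mul_right _ (cQ ▸ Syl.card_le sy pQ lQ)).trans (n3.trans n4)) 2
  rw [mul_pow, mul_pow, mul_pow, ← pow_mul, mul_comm _ 2] at n5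
  exact (Nat.mul_le_mul_right _ ((pow_add _ _ _).trans_le (Nat.mul_le_mul n1 n2))).trans n5
theorem h8_cmp (h : g * φ * g⁻¹ ∈ T) (ht : Ty μ ν (g * φ * g⁻¹) a b) : Nat.card F ^ (ex n a + ex n b) ≤ 4 * Nat.card F ^ (2 * ex n ι) := by
  have h1 := (s.cmp p h ht).trans (Nat.mul_le_mul_right _ (Nat.pow_le_pow_left (s.half (inf_le_left.trans (s.ΓT.trans s.T_HH))) 2))
  rw [mul_pow, mul_right_comm] at h1
  exact Nat.le_of_mul_le_mul_right h1 (pow_pos Nat.card_pos 2)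
/-- `cmp`, `half`: `q ^ x ≤ 4 q ^ y`. -/
theorem cmp3 (h : g * φ * g⁻¹ ∈ T) (ht : Ty μ ν (g * φ * g⁻¹) a b) : ex n a + ex n b < 2 * ex n ι + 3 := by
  have h1 := s.h8_cmp p h ht
  have h2 : 2 ≤ Nat.card F := Finite.one_lt_card
  refine (Nat.pow_lt_pow_iff_right h2).1 (h1.trans_lt ?_)
  rw [pow_add, mul_comm]
  exact Nat.mul_lt_mul_of_pos_left ((by norm_num : 4 < 2 ^ 3).trans_le (Nat.pow_le_pow_left h2 3)) (pow_pos Nat.card_pos _)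
theorem cmp1 (h0 : T ⊓ N ≤ N0 μ ν ∨ 4 < Nat.card F) (h : g * φ * g⁻¹ ∈ T) (ht : Ty μ ν (g * φ * g⁻¹) a b) : ex n a + ex n b ≤ 2 * ex n ι := by
  have h2 : 1 < Nat.card F := Finite.one_lt_card
  rcases h0 with h0 | h0
  · have h1 := s.cmp p h ht
    rw [inf_eq_left.2 ((inf_le_inf_right N s.ΓT).trans h0), mul_comm] at h1
    exact (Nat.pow_le_pow_iff_right h2).1 (Nat.le_of_mul_le_mul_left h1 (pow_pos Nat.card_pos 2))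
  · refine Nat.lt_succ_iff.1 ((Nat.pow_lt_pow_iff_right h2).1 ((s.h8_cmp p h ht).trans_lt ?_))
    rw [pow_succ']
    exact Nat.mul_lt_mul_of_pos_right h0 (pow_pos Nat.card_pos _)
/-- `Transfer.exists_conj_mem_and_conj_le` in `N`, `S = T ⊓ N`, `K` the kernel of `κ ∘ fst ∘ τ`, `C = S ⊓ C(φ) ⊇ i (H × H) (Γ ⊓ N)` (`FLU`, `Γ_cen`), of order
`≥ q ^ ex ι |Γ ⊓ N|`; `card_TN`, `card_fix` for `g ⋆ C`. -/
theorem ext1 (h0 : T ⊓ N ≤ N0 μ ν) {C : Type*} [Group C] [IsCyclic C] (κ : AA F →* C) :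
    ∃ g a b, g * φ * g⁻¹ ∈ T ∧ Ty μ ν (g * φ * g⁻¹) a b ∧ κ a = 1 ∧ (a ≠ 1 → b ≠ 1 → 2 * ex n ι ≤ ex n a + ex n b) := by
  have := s.nN
  obtain ⟨g, h, e, l⟩ := ext_tr (s.syl.inf le_top (le_normalizer_of_normal (H := N)))
    (κ.comp ((MonoidHom.fst _ _).comp (s.τ.comp (inclusion h0)))) (s.ph_sq p) (s.pN.ge p.memN) (D := T ⊓ N ⊓ 𝐂[φ])
    (pgroup_of_le s.syl.pgroup (inf_le_left.trans inf_le_left)) (inf_le_left.trans inf_le_right) inf_le_right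
  obtain ⟨a, b, ty⟩ := s.ty h.1 (h0 h)
  refine ⟨g, a, b, h.1, ty, (congrArg (fun x : AA F × AA F => κ x.1) (s.τ_ty ty (h0 h))).symm.trans e, fun a1 b1 => ?_⟩
  obtain ⟨H, f, n1⟩ := FLU (n := n) p.ι2 p.ι1
  have n2 := card_mul (A := (H.prod H).map s.i) (B := Γ ⊓ N) (S := T ⊓ N ⊓ 𝐂[φ]) (by
      rintro _ ⟨x, hx, rfl⟩
      exact ⟨le_inf s.SS_T s.SS_N (s.mem_SS.2 ⟨_, _, rfl⟩),
        mem_cent1.2 (mul_inv_eq_iff_eq_mul.1 ((p.ac.app (ju x.1) (ju x.2)).trans (by rw [f _ hx.1, f _ hx.2]; rfl))).symm⟩)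
    (fun x hx => ⟨⟨s.ΓT hx.1, hx.2⟩, mem_cent1.2 (s.Γ_cen p.mem p.ac hx.1).symm⟩) fun y hy h =>
      let ⟨_, hk⟩ := s.pΓ ⟨y, h.1⟩; s.Γ0_M (s.std y h.1) (s.SS_M (s.i_range.le (map_le_range _ _ hy))) (congrArg Subtype.val hk)
  rw [← Transfer.card_conj g (T ⊓ N ⊓ 𝐂[φ]), card_map_of_injective s.i_inj, Nat.card_congr (prodEquiv _ _).toEquiv, Nat.card_prod,
    ← sq, mul_comm] at n2
  have n3 := n1.trans (Nat.le_of_mul_le_mul_left (n2.trans (s.card_TN l)) Nat.card_pos)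
  have n4 := (Nat.pow_le_pow_left n3 2).trans (s.card_fix ty (cj2 (s.ph_sq p) g) a1 b1 inf_le_right (by
    rintro _ ⟨⟨x, hx, rfl⟩, -⟩
    exact cjc (mem_cent1.1 hx.2) g))
  rw [← pow_mul, mul_comm] at n4
  exact (Nat.pow_le_pow_iff_right Finite.one_lt_card).1 n4

theorem case1a (h0 : T ⊓ N ≤ N0 μ ν) (h1 : ι.1 ≠ 1) : False := by
  have := GSt.aut_cyclic F
  obtain ⟨g, a, b, hT, ty, ha, hr⟩ := s.ext1 p h0 (MonoidHom.fst _ _)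
  have c := s.cmp1 p (.inl h0) hT ty
  rw [ex_ne p.ι1 fun e => h1 (by rw [e])] at c hr
  have a1 : a ≠ 1 := fun e => (ex_A' b).not_ge (e ▸ c)
  have b1 : b ≠ 1 := fun e => (ex_A' a).not_ge (by rwa [e, add_comm] at c)
  obtain rfl := AA_γ ha a1
  replace hr := hr a1 b1
  have := (ex_C (n := n)).1
  by_cases e : b = γ0
  · rw [e, ex_γ] at c hr; omega
  · rw [ex_ne b1 e, ex_γ] at c hr; omega

theorem case1 (h0 : T ⊓ N ≤ N0 μ ν) : False := by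
  have A : ∀ {φ ι}, Ph μ ν Γ N φ ι → ι.1 = 1 := fun p => by_contra (s.case1a p h0)
  obtain rfl := AA_γ (A p) p.ι1
  obtain ⟨g, a, b, hT, ty, ha, hr⟩ := s.ext1 p h0 (MonoidHom.snd _ _)
  have c := s.cmp1 p (.inl h0) hT ty
  rw [ex_γ] at c hr
  obtain ⟨u, hu, σ, hσ, e, ac⟩ := s.ty_Γ hT ty
  have σN : σ ∈ N := (mul_mem_cancel_left (s.SS_N hu)).1 (e ▸ s.cjN p.memN g)
  obtain ⟨a2, b2⟩ := s.ty_sq ty (cj2 (s.ph_sq p) g)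
  have B := ex_B (n := n) (F := F)
  have ab : (a * b).1 = 1 := by
    by_contra c'
    refine c' (A (φ := σ * (t * σ * t)) ⟨mul_mem hσ (mul_mem (mul_mem s.tΓ hσ) s.tΓ), mul_mem σN (s.it ▸ s.cjN σN t :),
      by simpa only [← map_mul, AA_comm b] using ac.mul (s.ac_t ac), Inv.mul_self_mul_of_comm a2 b2 (AA_comm _ _), fun e => c' (by rw [e]; rfl)⟩)
  by_cases a1 : a.1 = 1
  · obtain rfl : a = 1 := Prod.ext a1 ha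
    rw [one_mul] at ab
    rcases AA_cases b with e | e <;> rw [e, ab] at c
    · exact absurd c (by change ¬ ex n (1 : AA F) + ex n (1 : AA F) ≤ _; omega)
    · exact absurd c (by change ¬ ex n (1 : AA F) + ex n (γ0 : AA F) ≤ _; omega)
  have b1 : b.1 ≠ 1 := fun e => a1 (by simpa [e] using ab)
  have n1 : ∀ {a : AA F}, a.1 ≠ 1 → a ≠ 1 := fun h e => h (by rw [e]; rfl)
  have n2 : ∀ {a : AA F}, a.1 ≠ 1 → ex n a = NN n := fun h => ex_ne (n1 h) fun e => h (by rw [e])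
  replace hr := hr (n1 a1) (n1 b1)
  have := (ex_C (n := n)).1
  rw [n2 a1, n2 b1] at c hr; omega

end SN2

end Cfsg.Lib.LS
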