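import Cfsg.Agent.Lib.L42.SP2

/-!
# S3152, `L₄(2)`: split case, copy of `LS/SB3`.
-/

set_option autoImplicit false

noncomputable section

namespace Cfsg.Lib.LS

open Matrix Subgroup Cfsg.Lib.BG Cfsg.Lib.GW Cfsg.Lib.Linear Cfsg.Lib.GSt.SLa
open scoped commutatorElement Cfsg.Lib.Transfer

open MulAut (conj)

variable {n : ℕ} {F : Type*} [Field F] [CharP F 2] [Finite F] {G : Type*} [Group G] [Finite G]
  {ψ μ ν : J n F →* G} {t g e φ : G} {O T Γ N : Subgroup G} {α β : MulAut (J n F)} {a b ι θ η : AA F}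

namespace SN2
variable (s : SN2 ψ t O μ ν T Γ N)
include s

theorem T_one' (h : g ∈ T) (h0 : Ac μ ν g α β) (h1 : α = 1) (h2 : β = 1) : g = 1 := by subst h1 h2; exact s.T_one h h0
omit [Finite G] in
theorem T0_z (h : g ∈ T) (h0 : g ∈ N0 μ ν) : g * μ (zc n 1) * g⁻¹ = μ (zc n 1) := by
  obtain ⟨θ, η, a, b, h⟩ := s.ty h h0
  rw [h.1, MulAut.mul_apply, sa_zc, map_one, MulAut.conj_apply, ← ju_uz, ← map_mul, LmS.comm_Z _ (uz_mem 1), map_mul ju, mul_inv_cancel_right]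
theorem beta1 {B : UU n F →* G} (bi : Function.Injective B) (bT : ∀ x, B x ∈ T ⊓ N0 μ ν) (nb : T ⊓ N0 μ ν ≤ 𝐍(B.range))
    (hz : B (uz n 1) ∉ (μ.comp ju).range) {y : UU n F} (a : Ac μ ν (B y) α β) : Θ α = 1 ∧ ∀ w, α = conj (ju w) → w ∈ LmS.Z (I n) F := by
  have l1 : (μ.comp ju).range ≤ T ⊓ N0 μ ν := le_sup_left.trans (le_inf s.SS_T s.SS_N0)
  have i1 : Function.Injective (μ.comp ju) := fun a b e => ju_inj (eq_ju (α := 1) s.sd.ker e)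
  have : ((μ.comp ju).range.comap B).Normal := ⟨fun x hx y => by simpa using conj_mem_of_norm (s.T_U1 (bT y).1 (bT y).2) hx⟩
  have : (B.range.comap (μ.comp ju)).Normal := ⟨fun x hx y => by
    simpa only [mem_comap, map_mul, map_inv] using conj_mem_of_norm (nb (l1 ⟨y, rfl⟩)) hx⟩
  have c := (NZ_half (N := (μ.comp ju).range.comap B) fun c => hz (c (uz_mem 1))).2
  rw [← card_map_of_injective bi, map_comap_eq, inf_comm, ← map_comap_eq, card_map_of_injective i1] at c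
  have z : ¬ LmS.Z (I n) F ≤ B.range.comap (μ.comp ju) := fun l => by
    have := (Nat.mul_le_mul_left 2 (card_le_of_le l)).trans c
    have h0 : 0 < Nat.card F := Nat.card_pos
    rw [card_Z] at this; omega
  have k : ∀ u, ∃ v ∈ B.range.comap (μ.comp ju), α (ju u) = ju (v * u) := fun u => by
    obtain ⟨v, hv⟩ := mul_mem (conj_mem_of_norm (s.T_U1 (bT y).1 (bT y).2) ⟨u, rfl⟩) (inv_mem ((μ.comp ju).mem_range.2 ⟨u, rfl⟩))
    refine ⟨v, ?_, eq_ju s.sd.ker (by rw [← a.1, map_mul, map_mul]; exact (eq_mul_inv_iff_mul_eq.1 hv).symm)⟩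
    simpa only [mem_comap, hv, mul_assoc] using mul_mem (B.mem_range.2 ⟨y, rfl⟩) (conj_mem_of_norm (nb (l1 ⟨u, rfl⟩)) (inv_mem (B.mem_range.2 ⟨y, rfl⟩)))
  refine ⟨triv_AA fun u => ?_, fun w e => by_contra fun c => z (cmZ c fun u => ?_)⟩ <;> obtain ⟨v, hv, h⟩ := k u
  · obtain ⟨c, rfl⟩ := mem_Z'.1 ((NZ_half z).1 hv)
    exact ⟨c, by rw [h, LmS.comm_Z _ (uz_mem c)]⟩
  · rw [e, MulAut.conj_apply, ← map_inv, ← map_mul, ← map_mul] at h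
    rwa [commutatorElement_def, ju_inj h, mul_inv_cancel_right]
/-- As `GSt.SN.beta` up to `w = B (uz 1) = μ (zc c) * ν (zc c)`, `c ≠ 0` (`CU`, `two_inner`), `B = n ν ju n⁻¹ : U → T ⊓ N0` with normal image.  `A i = B⁻¹ U i` is normal
without `uz 1`: `2 |A i| ≤ q` (`NZ_half`).  `B (A i) = B U ⊓ U i` is normal in `U i`, its preimage `A i'` has order `≤ q / 2`, so lies in `Z` (`NZ_half`, `card_Z`).
`⁅B y, U i⁆ ≤ B (A i)`: `triv_AA`, `T_SS` give `B y = μ (ju y₁) * ν (ju y₂)`, `cmZ` gives `y i ∈ Z`; so `B U` is abelian, against `uz_cm`. -/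
theorem beta (g : G) : g * ν (zc n 1) * g⁻¹ ≠ ψ (zc n 1) := fun e => by
  have c2 : ∀ x ∈ T ⊓ N0 μ ν, x * ν (zc n 1) * x⁻¹ = ν (zc n 1) := fun x hx => s.symm.T0_z hx.1 (N0_symm.ge hx.2)
  have c0 : ∀ x ∈ T ⊓ N0 μ ν, x * ψ (zc n 1) * x⁻¹ = ψ (zc n 1) := fun x hx => by
    rw [s.sd.diag, ← conj_mul, s.T0_z hx.1 hx.2, c2 x hx]
  have c : T ≤ 𝐂[ψ (zc n 1)] := fun x hx => mem_cent1.2 (by
    rcases s.mem_HH.1 (s.T_HH hx) with h | h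
    · exact mul_inv_eq_iff_eq_mul.1 (c0 x ⟨hx, h⟩)
    · have := mul_inv_eq_iff_eq_mul.1 (c0 _ ⟨mul_mem hx s.tT, h⟩)
      rwa [mul_assoc, s.tψ, ← mul_assoc, ← mul_assoc, mul_left_inj] at this)
  have p0 : IsPGroup 2 ↥(T ⊓ N0 μ ν) := pgroup_of_le s.syl.pgroup inf_le_left
  obtain ⟨d, hd, h⟩ := Syl.exists_conj_le (s.syl.of_le c le_top) ((pgroup_conj g).2 p0) (Transfer.conj_le_iff.2 fun x hx =>
    mem_cent1.2 (by rw [← e, conj_mul, conj_mul, ← mul_inv_eq_iff_eq_mul.1 (c2 x hx)]))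
  rw [Transfer.conj_conj, Transfer.conj_le_iff_le_inv_conj] at h
  replace e : d * g * ν (zc n 1) * (d * g)⁻¹ = ψ (zc n 1) := by
    rw [← mul_inv_eq_iff_eq_mul.2 (mem_cent1.1 hd), ← e]; group
  generalize d * g = g at h e
  have m : ∀ R : Subgroup G, Syl 2 R ⊤ → T ⊓ N0 μ ν ≤ R → Syl 2 R 𝐍(T ⊓ N0 μ ν) := fun R hR h => hR.of_le (by
    rcases h.eq_or_lt with e | e
    · exact e ▸ le_norm _
    · have h1 := GSt.two_mul_le (nil_norm_grow hR.nil e)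
      have h2 := s.half s.T_HH
      rw [s.syl.card_eq hR] at h2
      exact (eq_of_le_of_card_le inf_le_left (h2.trans h1)).ge.trans inf_le_right) le_top
  obtain ⟨m, hn, h1⟩ := (m _ (s.syl.conj_top g⁻¹) h).exists_conj_eq (m T s.syl inf_le_left)
  let B : UU n F →* G := (MulAut.conj m).toMonoidHom.comp (ν.comp ju)
  have hb : ∀ x, B x = m * ν (ju x) * m⁻¹ := fun _ => rfl
  have bi : Function.Injective B := (MulAut.conj m).injective.comp fun a b e => ju_inj (eq_ju (α := 1) s.ker' e)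
  have l2 : (ν.comp ju).range ≤ T ⊓ N0 μ ν := le_sup_right.trans (le_inf s.SS_T s.SS_N0)
  have l1 : (μ.comp ju).range ≤ T ⊓ N0 μ ν := le_sup_left.trans (le_inf s.SS_T s.SS_N0)
  have bT : ∀ x, B x ∈ T ⊓ N0 μ ν := fun x => conj_mem_of_norm hn (l2 ⟨x, rfl⟩)
  have nb : T ⊓ N0 μ ν ≤ 𝐍(B.range) := le_norm_iff.2 fun x hx => by
    rintro _ ⟨y, rfl⟩
    obtain ⟨w, hw⟩ := conj_mem_of_norm (s.T_U2 (conj_mem_of_norm' hn hx).1 (conj_mem_of_norm' hn hx).2) ⟨y, rfl⟩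
    exact ⟨w, by rw [hb, hb, ← MonoidHom.comp_apply, hw]; simp [mul_assoc]⟩
  have cw : ∀ x ∈ T, B (uz n 1) * x * (B (uz n 1))⁻¹ = x := fun x hx => by
    rw [h1, Transfer.mem_conj, Transfer.mem_conj, inv_inv] at hx
    have := mem_cent1.1 (c hx)
    rw [← e] at this
    rw [mul_inv_eq_iff_eq_mul, hb, ju_uz, ← mul_right_inj (g * m⁻¹), ← mul_left_inj (m * g⁻¹)]
    simpa [mul_assoc] using this.symm
  obtain ⟨α, β, a⟩ := (bT (uz n 1)).2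
  obtain ⟨c₁, rfl⟩ := CU (α := α) fun u => eq_ju s.sd.ker ((a.1 _).symm.trans (cw _ (l1 ⟨u, rfl⟩).1))
  obtain ⟨c₂, rfl⟩ := CU (α := β) fun u => eq_ju s.ker' ((a.2 _).symm.trans (cw _ (l2 ⟨u, rfl⟩).1))
  have w := s.two_inner (k := 1) (k' := 1) a (by rw [pow_one, sq, ← map_mul, H8.ux_sq, map_one]) (by simp [sq]) (by simp [sq])
  rw [← ju_uz, ← ju_uz] at w
  have e1 := s.t_apply (ju (uz n c₁)) (ju (uz n c₂))
  rw [← w, mul_inv_eq_iff_eq_mul.2 (mul_inv_eq_iff_eq_mul.1 (cw t s.tT)).symm, w] at e1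
  rw [← show uz n c₁ = uz n c₂ from congrArg Prod.fst (s.i_inj (a₁ := (_, _)) (a₂ := (_, _)) e1)] at w
  have w1 : uz n c₁ ≠ 1 := fun e => one_ne_zero (uz_inj ((bi (by simp [w, e])).trans uz_zero.symm))
  have z : ∀ y, ∃ a ∈ LmS.Z (I n) F, ∃ b ∈ LmS.Z (I n) F, B y = s.i (a, b) := fun y => by
    obtain ⟨α, β, a⟩ := (bT y).2
    have z1 := s.beta1 bi bT nb (fun ⟨x, e⟩ => w1 (congrArg Prod.snd (s.i_inj (a₁ := (uz n c₁, uz n c₁)) (a₂ := (x, 1)) (by simpa [s.i_apply] using (e.trans w).symm)))) a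
    have z2 := s.symm.beta1 bi (by rwa [N0_symm]) (by rwa [N0_symm])
      (fun ⟨x, e⟩ => w1 (congrArg Prod.fst (s.i_inj (a₁ := (uz n c₁, uz n c₁)) (a₂ := (1, x)) (by simpa [s.i_apply] using (e.trans w).symm)))) a.symm
    obtain ⟨x₁, x₂, e⟩ := s.mem_SS.1 (s.T_SS (bT y).1 a z1.1 z2.1)
    have := s.uniq a (e ▸ s.ac_μν _ _)
    exact ⟨_, z1.2 _ this.1, _, z2.2 _ this.2, e⟩
  obtain ⟨x, y, h⟩ := uz_cm (n := n) (1 : F)
  obtain ⟨a, -, b, -, ex⟩ := z x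
  obtain ⟨a', ha, b', hb, ey⟩ := z y
  refine one_ne_zero (uz_inj ((bi ?_).trans uz_zero.symm))
  rw [h, map_commutatorElement, ex, ey, ← map_commutatorElement, GSt.cm_mk, LmS.cm_Z _ ha, LmS.cm_Z _ hb, map_one]
  exact map_one _
/-- `B U ≤ N0`: `exists_rho`, `T_SU`, `T_one`, `ac_comm`, `EMB1` (`α i = ε i`), `FUU`, `ex_D`.  Else `H = B⁻¹ N0` has index two (`half`), `EMB4` for the kernels of
`ρ₂`, `ρ₁` on `H` (`swap`), `emb_AA`, `FUU`, `card_AA`: `q ^ (2 N) ≤ 16 e² q ^ ex`, `q³ ≤ 16 e²`. -/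
theorem emb_both (hq : 8 ≤ Nat.card F) (he : e ∈ T) (e2 : e * e = 1) (ht : Ty μ ν e a b) (ha : a ≠ 1) (hb : b ≠ 1) (B : UU n F →* G)
    (hi : Function.Injective B) (hT : ∀ x, B x ∈ T) (hc : ∀ x, Commute e (B x)) : False := by
  obtain ⟨ε₁, ε₂, ae⟩ := ht.N0
  obtain ⟨rfl, rfl⟩ := s.ty_Θ ht ae
  obtain ⟨q₁, q₂⟩ := s.ac_sq ae e2
  obtain ⟨s₁, s₂⟩ := s.T_SU he ae
  have num : ∀ {a : AA F} {c}, a ≠ 1 → Nat.card F ^ (2 * NN n) ≤ c * Nat.card F ^ ex n a → Nat.card F ^ 3 ≤ c := fun {a c} h l =>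
    Nat.le_of_mul_le_mul_right (a := _ ^ 3) ((pow_add _ _ _).ge.trans ((Nat.pow_le_pow_right (by omega) (by have := (ex_D (n := n) h).1; omega)).trans l))
      (by positivity)
  by_cases c : ∀ x, B x ∈ N0 μ ν
  · obtain ⟨ρ₁, ρ₂, r⟩ := s.exists_rho B c
    have k := fun x => s.ac_comm ae (r x) (hc x)
    obtain ⟨H, h, l⟩ := EMB1 (α₁ := ε₁) (α₂ := ε₂) ρ₁ ρ₂ (fun x h1 h2 => hi ((s.T_one' (hT x) (r x) h1 h2).trans (map_one B).symm))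
      (fun x => (s.T_SU (hT x) (r x)).1) (fun x => (s.T_SU (hT x) (r x)).2) s₁ s₂ q₁ q₂ ha hb (fun x => (k x).1) (fun x => (k x).2)
      (fun x => (k x).1) (fun x => (k x).2) rfl rfl
    rw [card_UU, ← pow_mul, mul_comm] at l
    have := h.elim (fun h => num ha (l.trans (Nat.mul_le_mul_left _ (FUU q₁ ha h)))) fun h => num hb (l.trans (Nat.mul_le_mul_left _ (FUU q₂ hb h)))
    nlinarith [Nat.mul_le_mul hq hq]
  obtain ⟨y, c⟩ := not_forall.1 c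
  obtain ⟨ρ₁, ρ₂, r⟩ := s.exists_rho (B.comp ((N0 μ ν).comap B).subtype) fun x => x.2
  have hH := s.half (P := B.range) (by rintro _ ⟨x, rfl⟩; exact s.T_HH (hT x))
  rw [← Nat.card_congr (MonoidHom.ofInjective hi).toEquiv, ← map_comap_eq, card_map_of_injective hi] at hH
  obtain ⟨α, β, a⟩ := (s.mem_HH.1 (s.T_HH (hT y))).resolve_left c
  have k := EMB4 (K₁ := ρ₂.ker.map (Subgroup.subtype _)) (K₂ := ρ₁.ker.map (Subgroup.subtype _)) (y := y) (by omega) hH (map_subtype_le _)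
    (le_norm_iff.2 (by rintro x hx _ ⟨z, hz, rfl⟩; exact ⟨_, ρ₂.normal_ker.conj_mem _ hz ⟨x, hx⟩, rfl⟩)) (by
      rintro _ ⟨z, hz, rfl⟩
      have a' := (a.mul (s.ac_t (r z))).mul a.inv
      rw [show B y * t * _ * _ = B (y * z * y⁻¹) by simp [mul_assoc, s.tt, s.it], show ρ₂ z = 1 from hz, mul_one, mul_inv_cancel] at a'
      exact ⟨⟨_, _, _, a'⟩, (s.uniq (r ⟨_, _, _, a'⟩) a').1, rfl⟩) (eq_bot_iff.2 (by
      rintro _ ⟨⟨z, hz, rfl⟩, z', hz', e⟩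
      obtain rfl : z' = z := Subtype.ext e
      exact hi ((s.T_one' (hT z') (r z') hz' hz).trans (map_one B).symm)))
  obtain ⟨H, h, l⟩ := emb_AA (α := ε₂) ρ₂ (fun x => (s.T_SU (hT x) (r x)).2) fun x => (s.ac_comm ae (r x) (hc x)).2
  obtain ⟨e, -, he, -⟩ := exists_e n F
  rw [(map_eq_bot_iff_of_injective _ (Subgroup.subtype_injective _)).1 k, card_bot, card_AA he] at l
  have := num (c := 16 * e ^ 2) hb (by
    rw [pow_mul', ← card_UU]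
    exact (Nat.pow_le_pow_left (hH.trans (Nat.mul_le_mul_left 2 l)) 2).trans
      ((by ring_nf; rfl : _ ≤ 16 * e ^ 2 * Nat.card H ^ 2).trans (Nat.mul_le_mul_left _ (FUU q₂ hb h))))
  have := GSt.fx_n2 e
  rw [← he] at this
  nlinarith [Nat.mul_le_mul hq hq]
/-- As `GSt.SN.alpha`: `B₀ x = μ (ju x) * ν (β (ju x))` centralizes the swap; `into_T` (`Γ_cen`), `emb_both`. -/
theorem alpha (hq : 8 ≤ Nat.card F) (p : Ph μ ν Γ N φ ι) (h : g * φ * g⁻¹ ∈ HH μ ν t) : g * φ * g⁻¹ ∈ N0 μ ν := by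
  by_contra h0
  obtain ⟨α, β, a⟩ := (s.mem_HH.1 h).resolve_left h0
  have r2 := cj2 (s.ph_sq p) g
  have e := fun x => (s.swap a x).1
  let b₀ : UU n F →* G := (s.pr.comp ((MonoidHom.id _).prod β.toMonoidHom)).comp ju
  have hb : ∀ x, b₀ x = μ (ju x) * ν (β (ju x)) := fun _ => rfl
  have c0 : ∀ x, b₀ x * (g * φ * g⁻¹) = g * φ * g⁻¹ * b₀ x := fun x => by
    conv_rhs => rw [hb, s.sd.comm]
    generalize g * φ * g⁻¹ = r at r2 e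
    simp only [hb, ← e, mul_assoc, inv_eq_of_mul_eq_one_left r2, ← mul_assoc r r, r2, one_mul, mul_one]
  obtain ⟨c, h1, h2, h3⟩ := s.into_T (k := 1) p.ac.ty ((sq φ).trans (s.ph_sq p)) (s.Γ_cen p.mem p.ac s.tΓ)
    (pU.of_surjective _ b₀.rangeRestrict_surjective) (by rintro _ ⟨x, rfl⟩; exact c0 x)
  exact s.emb_both hq h2 (cj2 r2 c) h3 p.ι1 p.ι1 ((MulAut.conj c).toMonoidHom.comp b₀) ((MulAut.conj c).injective.comp
    ((injective_iff_map_eq_one _).2 fun x e => ju_cen (s.cen e).1)) (fun x => h1 ⟨_, ⟨x, rfl⟩, rfl⟩) fun x => cjc (c0 x).symm c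
/-- `B x = g (μ (ju x) * ν (sa η (ju x))) g⁻¹ ∈ N0` (`Θ_HH`).  `ρ₁ Z = 1` (`EMB3`), so `ker ρ₂ ⊓ Z = 1`, `ker ρ₂ = 1` (`NZ`).  `B (uz 1) = ν (ju w)` (`Θ_uz`, `T_SS`, `cju_inj`);
`emb0` with `α = conj (ju w)`, `CS`: `w = uz c`, `c ≠ 0`, conjugate to `uz 1` in `J` (`dg_xr`, `third`); `beta`. -/
theorem emb_one (hq : 4 < Nat.card F) (he : e ∈ T) (e2 : e * e = 1) (ht : Ty μ ν e a 1) (ha : a ≠ 1)
    (h : ∀ x, g * (μ (ju x) * ν (sa η (ju x))) * g⁻¹ ∈ T ⊓ 𝐂[e]) : False := by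
  let B : UU n F →* G := (MulAut.conj g).toMonoidHom.comp ((s.pr.comp ((MonoidHom.id _).prod (sa η).toMonoidHom)).comp ju)
  have bi : ∀ x, B x = 1 → x = 1 := fun x e => ju_cen (s.cen ((MulAut.conj g).injective (e.trans (map_one _).symm))).1
  have bT : ∀ x, B x ∈ T := fun x => (h x).1
  have hc : ∀ x, Commute e (B x) := fun x => (mem_cent1.1 (h x).2).symm
  obtain ⟨ε₁, ε₂, ae⟩ := ht.N0
  obtain ⟨rfl, t2⟩ := s.ty_Θ ht ae
  obtain ⟨ρ₁, ρ₂, r⟩ := s.exists_rho B fun x => (s.Θ_HH (s.T_HH (bT x)) ae ((cjf.2 (hc x).symm).symm ▸ ae)).elim (·.2.2) fun c => absurd (c.1.trans t2) ha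
  have z := EMB3 ρ₁ (fun x => (s.T_SU (bT x) (r x)).1) (s.T_SU he ae).1 (s.ac_sq ae e2).1 ha fun x => (s.ac_comm ae (r x) (hc x)).1
  have k0 : ∀ c, uz n c ∈ ρ₂.ker → uz n c = 1 := fun c e => bi _ (s.T_one' (bT _) (r _) (z c) e)
  have z1 : uz n (1 : F) ≠ 1 := fun e => one_ne_zero (uz_inj (e.trans uz_zero.symm))
  have k : ρ₂.ker = ⊥ := eq_bot_iff.2 fun x hx => by
    obtain ⟨c, rfl⟩ := mem_Z'.1 ((by_contra fun c => z1 (k0 _ (NZ c (uz_mem 1))) : ρ₂.ker ≤ _) hx)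
    exact k0 c hx
  obtain ⟨v, w, e1⟩ := s.mem_SS.1 (s.T_SS (bT _) (r (uz n 1)) (Θ_uz ..) (Θ_uz ..))
  obtain ⟨e3, e4⟩ := s.uniq (r _) (e1 ▸ s.ac_μν _ _)
  obtain rfl : v = 1 := cju_inj (e3.symm.trans ((z 1).trans (map_one _).symm))
  obtain ⟨H, hH, l⟩ := emb0 (α := ρ₂ (uz n 1)) (fun _ => top_of_inv) ρ₂ (fun x => (s.T_SU (bT x) (r x)).2) fun x =>
    (show Commute _ x from (LmS.comm_Z x (uz_mem 1)).symm).map ρ₂
  rw [k, card_bot, mul_one] at l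
  obtain ⟨c, rfl⟩ := mem_Z'.1 (CS (H := H) (y := w) (l.trans_lt (Nat.mul_lt_mul_of_pos_right hq Nat.card_pos)) fun b hb =>
    ju_inj (by rw [map_mul, map_mul]; exact (cjf.1 (e4 ▸ hH b hb :)).symm))
  have c0 : c ≠ 0 := by rintro rfl; exact z1 (bi _ (by simpa using e1))
  obtain ⟨j, j0, j1⟩ := third (⊥ : I n) ⊤
  have e5 := dg_xr (hh ⊥ j (Units.mk0 c c0)) ⊥ ⊤ 1
  simp only [hh_apply, if_pos, if_neg j0.symm, if_neg j1.symm, if_neg bt.symm, mul_one, Units.val_mk0, Units.val_one, inv_one] at e5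
  refine s.beta (g⁻¹ * ν (dg (hh ⊥ j (Units.mk0 c c0)))) ?_
  rw [map_one, map_one, one_mul, ju_uz, zc, ← e5] at e1
  change g * (μ (ju _) * ν (sa η (ju _))) * g⁻¹ = _ at e1
  rw [ju_uz, sa_zc, map_one, ← s.sd.diag] at e1
  calc _ = g⁻¹ * ν (dg (hh ⊥ j (Units.mk0 c c0)) * zc n 1 * (dg (hh ⊥ j (Units.mk0 c c0)))⁻¹) * g := by simp [mul_assoc]
    _ = _ := by rw [← e1]; group
theorem ty_ph (hq : 4 < Nat.card F) (p : Ph μ ν Γ N φ ι) (h1 : ι ≠ γ0) (h : g * φ * g⁻¹ ∈ T) (ht : Ty μ ν (g * φ * g⁻¹) a b) :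
    a ≠ 1 ∧ b ≠ 1 ∧ (a = γ0 → Even n) ∧ (b = γ0 → Even n) := by
  have c := s.cmp1 p (.inr hq) h ht
  rw [ex_ne p.ι1 h1] at c
  have a1 : a ≠ 1 := fun e => (ex_A' b).not_ge (e ▸ c)
  have b1 : b ≠ 1 := fun e => (ex_A' a).not_ge (by rwa [e, add_comm] at c)
  have k : ∀ {a b : AA F}, ex n a + ex n b ≤ 2 * NN n → b ≠ 1 → a = γ0 → Even n := fun {a b} c b1 e => by_contra fun o => by
    have := (ex_C (n := n)).2.1 (Nat.not_even_iff_odd.1 o)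
    rw [e, ex_γ] at c
    by_cases e' : b = γ0
    · rw [e', ex_γ] at c; omega
    · rw [ex_ne b1 e'] at c; omega
  exact ⟨a1, b1, k c b1, k (add_comm (ex n a) _ ▸ c) a1⟩
/-- As `GSt.SN.case2a`.  `a t` acts as `(θ, θ⁻¹)` (`std1`) and has order `2 ^ (k + 2)` (`ct`, `Γ_pow`); `θ² = (θ.1², 1) ≠ 1` gives `q ≥ 16` (`big_of_ord`);
`φ = (a t) ^ 2 ^ (k + 1) ∈ N` has `Ph φ ι`, `ι = θ ^ 2 ^ (k + 1) ≠ γ0`, `a ~ a φ`, `a ≁ φ` (`alpha`).  Types of `e = g a g⁻¹`: both `≠ 1`: `emb_both`; one is `1`: `emb_one`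
(or `symm`); `(1, 1)`: `e ∈ S'` (`ty_one`), `φ' = g φ g⁻¹ ∈ T ⊓ N0` (`alpha`), `ty_ph`, `SP.coset`: `φ' ~ e φ'`. -/
theorem case2a {a : G} (ha : a ∈ Γ ⊓ N) (a0 : a ∉ N0 μ ν) (a2 : a * a = 1) (h0 : g * a * g⁻¹ ∈ N0 μ ν) (h : g ⋆ (T ⊓ N ⊓ 𝐂[a]) ≤ T) : False := by
  obtain ⟨θ, η, r⟩ := s.std1 ha.1 a0
  have aT := s.ΓT ha.1
  have e : θ * η = 1 := sa_inj (n := n) (by
    rw [map_mul, map_one]; exact (s.uniq (r.mul (s.ac_t r)) (by simpa [mul_assoc, s.tt, s.t2, a2] using Ac.one)).1)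
  have rΓ := mul_mem ha.1 s.tΓ
  obtain ⟨m, hn⟩ := s.pΓ ⟨_, rΓ⟩
  obtain ⟨k, -, hk⟩ := (Nat.dvd_prime_pow Nat.prime_two).1 (orderOf_dvd_of_pow_eq_one (congrArg Subtype.val hn : (a * t) ^ _ = 1))
  obtain ⟨k, rfl⟩ := Nat.exists_eq_add_of_le' (show 2 ≤ k from by_contra fun c => a0 (s.ct ha.2 (Inv.comm_of_mul_self a2 s.t2 (by
    rw [← sq, ← orderOf_dvd_iff_pow_eq_one, hk]; exact (pow_dvd_pow 2 (by omega)).trans (pow_one 2).dvd))))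
  obtain rfl := eq_inv_of_mul_eq_one_right e
  have o : ∀ j, (a * t) ^ j = 1 ↔ θ ^ j = 1 := fun j => by rw [s.Γ_pow rΓ r, inv_pow, inv_eq_one, and_self]
  have o1 := (o _).1 (hk ▸ pow_orderOf_eq_one (a * t))
  have o2 : θ ^ 2 ^ (k + 1) ≠ 1 := mt (o _).2 (pow_ne_one_of_lt_orderOf (by positivity) (hk ▸ Nat.pow_lt_pow_right one_lt_two (by omega)))
  have g2 : ∀ x : Multiplicative (ZMod 2), x ^ 2 = 1 := by decide
  have hq : 16 ≤ Nat.card F := big_of_ord (congrArg Prod.fst o1) fun c => o2 (by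
    rw [pow_succ', pow_mul, show θ ^ 2 = 1 from Prod.ext c (g2 _), one_pow])
  have i2 : θ ^ 2 ^ (k + 1) * θ ^ 2 ^ (k + 1) = 1 := by rw [← pow_add, ← two_mul, ← pow_succ', o1]
  obtain ⟨φ, w⟩ : ∃ φ, (a * t) ^ 2 ^ (k + 1) = φ := ⟨_, rfl⟩
  have p : Ph μ ν Γ N φ (θ ^ 2 ^ (k + 1)) := w ▸ ⟨pow_mem rΓ _, by
    rw [pow_succ', pow_mul, sq, mul_assoc, ← mul_assoc t]; exact pow_mem (mul_mem ha.2 (s.it ▸ s.cjN ha.2 t :)) _, by
    simpa only [← map_pow, inv_pow, inv_eq_of_mul_eq_one_left i2] using r.pow (2 ^ (k + 1)), i2, o2⟩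
  have ιγ : θ ^ 2 ^ (k + 1) ≠ γ0 := fun c => g1_ne ((congrArg Prod.snd c).symm.trans (by rw [pow_succ', pow_mul, Prod.pow_snd, Prod.pow_snd, g2, one_pow]))
  have pc := s.Γ_cen p.mem p.ac ha.1
  have c1 : IsConj a (a * φ) := isConj_iff.2 ⟨(a * t) ^ 2 ^ k, by
    have := Inv.zpow_conj_left a2 s.t2 (2 ^ k : ℕ)
    rw [zpow_natCast] at this
    rw [this, ← pc, ← w, pow_succ', ← zpow_natCast]; push_cast; rfl⟩
  have nc : ¬ IsConj φ a := fun c => by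
    obtain ⟨x, hx⟩ := isConj_iff.1 c
    exact a0 (hx ▸ s.alpha (by omega) p (hx ▸ s.T_HH aT))
  replace h := Transfer.conj_le_iff.1 h
  have eT := h a ⟨⟨aT, ha.2⟩, self_mem_cent1 a⟩
  have fT := h φ ⟨⟨s.ΓT p.mem, p.memN⟩, mem_cent1.2 pc⟩
  obtain ⟨θ₁, θ₂, te⟩ := s.ty eT h0
  have e2 := cj2 a2 g
  have y : ∀ x y, sa θ⁻¹ (ju x) = y → g * (μ (ju x) * ν y) * g⁻¹ ∈ T ⊓ 𝐂[g * a * g⁻¹] := fun x y e => by
    have c : μ (ju x) * ν y ∈ 𝐂[a] := mem_cent1.2 (by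
      rw [eq_comm, ← mul_inv_eq_iff_eq_mul, ← conj_mul, (s.swap r _).1, (s.swap r _).2, e, ← e, ← MulAut.mul_apply, ← map_mul, mul_inv_cancel,
        map_one, MulAut.one_apply, s.sd.comm])
    obtain ⟨v, hv⟩ := sa_ju θ⁻¹ x
    exact ⟨h _ ⟨le_inf s.SS_T s.SS_N (s.mem_SS.2 ⟨_, _, by rw [← e, hv]⟩), c⟩, mem_cent1.2 (cjc (mem_cent1.1 c) g)⟩
  by_cases h1 : θ₁ = 1 <;> by_cases h2 : θ₂ = 1
  · subst h1 h2
    obtain ⟨θ₁, θ₂, tf⟩ := s.ty fT (s.alpha (by omega) p (s.T_HH fT))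
    obtain ⟨α', β', af⟩ := tf.N0
    obtain ⟨rfl, rfl⟩ := s.ty_Θ tf af
    obtain ⟨k1, k2, k3, k4⟩ := s.ty_ph (by omega) p ιγ fT tf
    have := s.coset af (cj2 (s.ph_sq p) g) k1 k2 k3 k4 (s.SS_M ((s.ty_one s.toSY eT).1 te))
      (by rw [conj_mul]; exact cj2 (Inv.mul_self_mul_of_comm a2 (s.ph_sq p) pc.symm) g)
    rw [conj_mul] at this
    exact nc ((((isConj_iff.2 ⟨_, rfl⟩).trans this).trans (isConj_iff.2 ⟨_, rfl⟩).symm).trans c1.symm)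
  · refine s.symm.emb_one (η := θ) (g := g) (by omega) eT e2 (h1 ▸ te.symm) h2 fun x => ?_
    obtain ⟨v, hv⟩ := sa_ju θ x
    rw [← s.sd.comm, hv]
    exact y _ _ (by rw [← hv, ← MulAut.mul_apply, ← map_mul, inv_mul_cancel, map_one, MulAut.one_apply])
  · exact s.emb_one (by omega) eT e2 (h2 ▸ te) h1 fun x => y _ _ rfl
  · exact s.emb_both (by omega) eT e2 te h1 h2 ((MulAut.conj g).toMonoidHom.comp ((s.pr.comp ((MonoidHom.id _).prod (sa θ⁻¹).toMonoidHom)).comp ju))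
      ((MulAut.conj g).injective.comp ((injective_iff_map_eq_one _).2 fun x e => ju_cen (s.cen e).1)) (fun x => (y x _ rfl).1)
      fun x => (mem_cent1.1 (y x _ rfl).2).symm

end SN2

end Cfsg.Lib.LS
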